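import Cfsg.Agent.Mrg.Omega.NO3S.TwoOne.PlaneKF
import Cfsg.Agent.Mrg.Omega.NO3S.Fit.GlueFive
import Cfsg.Agent.Mrg.Omega.NO3S.TV.Sys
import Cfsg.Agent.Mrg.Omega.NOne.LemmaT
import Cfsg.Agent.Mrg.Omega.VP
import Cfsg.Agent.Lib.CoprimeCommutator
import Cfsg.Agent.Omega.NatPair.Mod
import Mathlib
import Cfsg.Agent.Mrg.Omega.SQ1.Choice
import Cfsg.Agent.Mrg.Omega.NO3S.TwoOne.Irr
import Cfsg.Agent.OddCyclic.GamLoc
import Cfsg.Agent.Mrg.Omega.RuShape.Base
import Cfsg.Agent.Mrg.Omega.NOThree.Ru.Table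
import Cfsg.Agent.Lib.FieldFour
import Cfsg.Agent.Lib.SL2Mat
import Cfsg.Agent.Mrg.Omega.KM.KM
import Cfsg.Agent.Mrg.Omega.NO3S.TwoOne.Main

-- merged: Cfsg.Agent.Mrg.Omega.NO3S.SLTwo.Rep
section

section


/-!
# NO-3S, `q = 2`, `n = 1`: `M = W_z/⟨z⟩` and its submodules, in the language of `MRep`

`h : One T V z`, `R : MRep V cg z M H`.

* `toW h R X` : the preimage of `X ≤ M` in `W_z`; `cc h R` : the image of `cm V z`, i.e. `C_M(H⁰)`;
* `sub_cc` : a proper submodule of `M` is in `cc h R`; `faithful_cc` : `M / cc h R` is faithful; `comm_cc` : the conjugates of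
  `A` are trivial on `cc h R`; `v0_not_mem` : `R.pi y ∉ cc h R`;
* `jm h R` : the image of `ii V`; `comm_mem_jm` : `[M, A] ≤ jm h R`; `jm_cc` : `jm h R ∩ cc h R = 0`;
* `card_img` : `|A| = |W_y : E_y|`; `index_fix` : `|M : C_M(a)| ≤ 2|A|`;
* `exists_quot` : quotient modules.
-/

set_option autoImplicit false
set_option linter.unusedSectionVars false

namespace Cfsg.Agent.Omega.NO3S.SLTwo

open Subgroup Cfsg Cfsg.Agent.ZN Cfsg.Agent.MinSimple.Geo Cfsg.Agent.Omega.CaseL
open Cfsg.Agent.Omega.NO3S.Fit Cfsg.Agent.Omega.NO3S.TwoOne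
open Cfsg.Agent.ZN.Block (conj_mem_of_normalizer conj_mem_of_normalizer' le_normalizer_of_forall
  mem_normalizer_of)
open scoped commutatorElement

universe u

variable {G : Type u} [Group G] {T V : Subgroup G} {z : G} {M H : Type u} [AddCommGroup M] [Group H]
  [DistribMulAction H M]

section basic

variable (h : One T V z) (R : MRep V cg z M H) [Finite G]
include h

theorem ws_eq : ww V cg z = ws V z := h.ww_cg h.ln.z_mem h.ln.z_ne

theorem pi_mul' {a b : G} (ha : a ∈ ws V z) (hb : b ∈ ws V z) : R.pi (a * b) = R.pi a + R.pi b := by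
  rw [← ws_eq h] at ha hb
  exact R.pi_mul a ha b hb

theorem pi_inv' {a : G} (ha : a ∈ ws V z) : R.pi a⁻¹ = - R.pi a := by
  rw [← ws_eq h] at ha
  exact R.pi_inv h.fam ha

theorem pi_surj' (m : M) : ∃ w ∈ ws V z, R.pi w = m := by
  obtain ⟨w, hw, e⟩ := R.pi_surj m
  rw [ws_eq h] at hw
  exact ⟨w, hw, e⟩

theorem pi_ker' {w : G} (hw : w ∈ ws V z) : R.pi w = 0 ↔ w = 1 ∨ w = z := by
  rw [← ws_eq h] at hw
  exact R.pi_ker w hw

theorem act' {c w : G} (hc : c ∈ centralizer ({z} : Set G)) (hw : w ∈ ws V z) :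
    R.phi c • R.pi w = R.pi (c * w * c⁻¹) := by
  rw [← ws_eq h] at hw
  exact R.act c hc w hw

theorem conj_ws_z {c w : G} (hc : c ∈ centralizer ({z} : Set G)) (hw : w ∈ ws V z) : c * w * c⁻¹ ∈ ws V z := by
  have := conj_mem_ws c hw
  rwa [conj_eq_of_comm (mem_centralizer_singleton_iff.mp hc)] at this

theorem comm_pi {c w : G} (hc : c ∈ centralizer ({z} : Set G)) (hw : w ∈ ws V z) :
    R.phi c • R.pi w - R.pi w = R.pi (c * w * c⁻¹ * w⁻¹) := by
  rw [act' h R hc hw, pi_mul' h R (conj_ws_z h hc hw) (inv_mem hw), pi_inv' h R hw, sub_eq_add_neg]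

/-- the preimage of a subgroup of `M` in `W_z` -/
def toW (X : AddSubgroup M) : Subgroup G where
  carrier := {w | w ∈ ws V z ∧ R.pi w ∈ X}
  mul_mem' := by
    rintro a b ⟨ha, ha1⟩ ⟨hb, hb1⟩
    refine ⟨mul_mem ha hb, ?_⟩
    rw [pi_mul' h R ha hb]
    exact X.add_mem ha1 hb1
  one_mem' := ⟨one_mem _, by
    rw [(pi_ker' h R (one_mem _)).2 (Or.inl rfl)]
    exact X.zero_mem⟩
  inv_mem' := by
    rintro a ⟨ha, ha1⟩
    refine ⟨inv_mem ha, ?_⟩
    rw [pi_inv' h R ha]
    exact X.neg_mem ha1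

theorem mem_toW {X : AddSubgroup M} {w : G} : w ∈ toW h R X ↔ w ∈ ws V z ∧ R.pi w ∈ X := Iff.rfl

theorem isSub_toW {X : AddSubgroup M} (hX : ∀ x : H, ∀ m ∈ X, x • m ∈ X) : IsSub V z (toW h R X) where
  z_mem := by
    have hz := h.ln.V_le_ws h.ln.z_mem
    refine ⟨hz, ?_⟩
    rw [(pi_ker' h R hz).2 (Or.inr rfl)]
    exact X.zero_mem
  le := fun w hw => hw.1
  norm := by
    refine le_normalizer_of_forall fun c hc w hw => ⟨conj_ws_z h hc hw.1, ?_⟩
    rw [← act' h R hc hw.1]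
    exact hX _ _ hw.2

/-- the image of a subgroup of `W_z` in `M` -/
def toM (Y : Subgroup G) (hY : Y ≤ ws V z) : AddSubgroup M where
  carrier := {m | ∃ w ∈ Y, R.pi w = m}
  add_mem' := by
    rintro _ _ ⟨a, ha, rfl⟩ ⟨b, hb, rfl⟩
    exact ⟨a * b, mul_mem ha hb, pi_mul' h R (hY ha) (hY hb)⟩
  zero_mem' := ⟨1, one_mem _, (pi_ker' h R (one_mem _)).2 (Or.inl rfl)⟩
  neg_mem' := by
    rintro _ ⟨a, ha, rfl⟩
    exact ⟨a⁻¹, inv_mem ha, pi_inv' h R (hY ha)⟩

theorem mem_toM {Y : Subgroup G} {hY : Y ≤ ws V z} {m : M} : m ∈ toM h R Y hY ↔ ∃ w ∈ Y, R.pi w = m := Iff.rfl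

theorem pi_eq' {a b : G} (ha : a ∈ ws V z) (hb : b ∈ ws V z) : R.pi a = R.pi b ↔ a = b ∨ a = z * b := by
  rw [← ws_eq h] at ha hb
  exact R.pi_eq h.fam ha hb

theorem pi_mem_toM {Y : Subgroup G} (hY : Y ≤ ws V z) (hz : z ∈ Y) {w : G} (hw : w ∈ ws V z) :
    R.pi w ∈ toM h R Y hY ↔ w ∈ Y := by
  constructor
  · rintro ⟨v, hv, e⟩
    rcases (pi_eq' h R hw (hY hv)).1 e.symm with e | e
    · rw [e]; exact hv
    · rw [e]; exact mul_mem hz hv
  · exact fun hw => ⟨w, hw, rfl⟩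

/-- the image of `cm V z`, i.e. `C_M(H⁰)` -/
def cc : AddSubgroup M := toM h R (cm V z) (cm_le V z)

theorem pi_mem_cc {w : G} (hw : w ∈ ws V z) : R.pi w ∈ cc h R ↔ w ∈ cm V z :=
  pi_mem_toM h R _ h.isSub_cm.z_mem hw

theorem cc_inv (x : H) {m : M} (hm : m ∈ cc h R) : x • m ∈ cc h R := by
  obtain ⟨w, hw, rfl⟩ := hm
  obtain ⟨c, hc, rfl⟩ := R.phi_surj x
  have hc' : c ∈ centralizer ({z} : Set G) := hc
  rw [act' h R hc' (cm_le V z hw), pi_mem_cc h R (conj_ws_z h hc' (cm_le V z hw))]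
  exact conj_mem_of_normalizer h.isSub_cm.norm hc' hw

/-- a proper submodule is in `cc h R` -/
theorem sub_cc {X : AddSubgroup M} (hX : ∀ x : H, ∀ m ∈ X, x • m ∈ X) : X ≤ cc h R ∨ X = ⊤ := by
  by_cases e : toW h R X = ws V z
  · right
    rw [eq_top_iff]
    intro m _
    obtain ⟨w, hw, rfl⟩ := pi_surj' h R m
    rw [← e] at hw
    exact hw.2
  · left
    intro m hm
    obtain ⟨w, hw, rfl⟩ := pi_surj' h R m
    exact ⟨w, h.le_cm (isSub_toW h R hX) e ⟨hw, hm⟩, rfl⟩

theorem cc_ne_top : cc h R ≠ ⊤ := by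
  intro e
  apply h.cm_ne
  refine le_antisymm (cm_le V z) fun w hw => ?_
  rw [← pi_mem_cc h R hw, e]
  trivial

theorem faithful_cc {x : H} (hx : ∀ m : M, x • m - m ∈ cc h R) : x = 1 := by
  obtain ⟨c, hc, rfl⟩ := R.phi_surj x
  have hc' : c ∈ centralizer ({z} : Set G) := hc
  rw [h.phi_eq_one R hc]
  refine h.faithful hc' fun w hw => ?_
  have h1 := hx (R.pi w)
  rw [comm_pi h R hc' hw] at h1
  exact (pi_mem_cc h R (mul_mem (conj_ws_z h hc' hw) (inv_mem hw))).1 h1

/-- the conjugates of `A` are trivial on `cc h R` -/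
theorem comm_cc {y : G} (hy : y ∈ V) (hy1 : y ≠ 1) (hyz : y ≠ z) (x : H) {a m : _} (ha : a ∈ R.img (ww V cg y))
    (hm : m ∈ cc h R) : (x * a * x⁻¹) • m = m := by
  have hle : ww V cg y ≤ cg z := by rw [h.ww_cg hy hy1]; exact h.ws_le_cg hy hy1
  obtain ⟨w, hw, rfl⟩ := (R.mem_img hle).1 ha
  obtain ⟨c, hc, rfl⟩ := R.phi_surj x
  obtain ⟨v, hv, rfl⟩ := hm
  have hwc := hle hw
  rw [h.ww_cg hy hy1] at hw
  have e : R.phi c * R.phi w * (R.phi c)⁻¹ = R.phi (c * w * c⁻¹) := by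
    rw [R.phi_mul _ (mul_mem hc hwc) _ (inv_mem hc), R.phi_mul c hc w hwc, R.phi_inv hc]
  have hcw : c * w * c⁻¹ ∈ ws V (c * y * c⁻¹) := conj_mem_ws c hw
  have hnb : c * y * c⁻¹ ∈ nb V z := conj_mem_nb hc (h.mem_nb hy hy1 hyz)
  rw [e, ← sub_eq_zero, comm_pi h R (mul_mem (mul_mem hc hwc) (inv_mem hc)) (cm_le V z hv)]
  have h1 := hv.2.2 _ hnb _ hcw
  rw [mem_zpowers_iff_of_mul_self h.ln.zz] at h1
  exact (pi_ker' h R (mul_mem (conj_ws_z h (mul_mem (mul_mem hc hwc) (inv_mem hc)) (cm_le V z hv))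
    (inv_mem (cm_le V z hv)))).2 h1

theorem v0_not_mem {y : G} (hy : y ∈ V) (hy1 : y ≠ 1) (hyz : y ≠ z) : R.pi y ∉ cc h R := by
  rw [pi_mem_cc h R (h.ln.V_le_ws hy)]
  intro hc
  rcases h.inf_V h.isSub_cm h.cm_ne hy hc with e | e
  · exact hy1 e
  · exact hyz e

/-- the image of `ii V` -/
def jm : AddSubgroup M := toM h R (ii V) (ii_le h.ln.z_mem h.ln.z_ne)

theorem jm_cc {m : M} (hm : m ∈ jm h R) (hc : m ∈ cc h R) : m = 0 := by
  obtain ⟨w, hw, rfl⟩ := hm
  have hw' := ii_le h.ln.z_mem h.ln.z_ne hw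
  rw [pi_mem_cc h R hw'] at hc
  exact (pi_ker' h R hw').2 (h.lemma_i h.isSub_cm h.cm_ne hc hw)

theorem comm_mem_jm {y : G} (hy : y ∈ V) (hy1 : y ≠ 1) (hyz : y ≠ z) {a : H} (ha : a ∈ R.img (ww V cg y)) (m : M) :
    a • m - m ∈ jm h R := by
  have hle : ww V cg y ≤ cg z := by rw [h.ww_cg hy hy1]; exact h.ws_le_cg hy hy1
  obtain ⟨w, hw, rfl⟩ := (R.mem_img hle).1 ha
  obtain ⟨v, hv, rfl⟩ := pi_surj' h R m
  rw [comm_pi h R (hle hw) hv]
  rw [h.ww_cg hy hy1] at hw
  exact ⟨_, h.comm_mem_ii hy hy1 h.ln.z_mem h.ln.z_ne (Ne.symm hyz) hw hv, rfl⟩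

end basic

section index

variable (h : One T V z) (R : MRep V cg z M H) [Finite G]
include h

/-- `|A| = |W_y : E_y|` -/
theorem card_img {y : G} (hy : y ∈ V) (hy1 : y ≠ 1) (hyz : y ≠ z) :
    Nat.card (R.img (ww V cg y)) = (ee V y).relIndex (ws V y) := by
  have hle : ww V cg y ≤ cg z := by rw [h.ww_cg hy hy1]; exact h.ws_le_cg hy hy1
  have hle' : ws V y ≤ cg z := h.ws_le_cg hy hy1
  let f : ws V y →* H := R.hom.comp (Subgroup.inclusion hle')
  have hf : ∀ w : ws V y, f w = R.phi w := fun w => rfl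
  have hr : f.range = R.img (ww V cg y) := by
    ext x
    rw [R.mem_img hle, h.ww_cg hy hy1]
    constructor
    · rintro ⟨w, rfl⟩
      exact ⟨w, w.2, rfl⟩
    · rintro ⟨w, hw, rfl⟩
      exact ⟨⟨w, hw⟩, rfl⟩
  have hk : f.ker = (ee V y).subgroupOf (ws V y) := by
    ext w
    rw [MonoidHom.mem_ker, hf, mem_subgroupOf, h.phi_eq_one R (hle' w.2)]
    constructor
    · exact fun hw => h.mem_ee hy hy1 h.ln.z_mem h.ln.z_ne (Ne.symm hyz) w.2 hw
    · exact fun hw => hw.2 z h.ln.z_mem h.ln.z_ne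
  rw [← hr, ← index_ker, hk]
  rfl

/-- `w ↦ R.pi w` on `W_z` -/
def piHom : ws V z →* Multiplicative M where
  toFun w := Multiplicative.ofAdd (R.pi w)
  map_one' := congrArg Multiplicative.ofAdd ((pi_ker' h R (one_mem _)).2 (Or.inl rfl))
  map_mul' := fun a b => congrArg Multiplicative.ofAdd (pi_mul' h R a.2 b.2)

/-- `|M : C_M(a)| ≤ 2|A|` -/
theorem index_fix {y : G} (hy : y ∈ V) (hy1 : y ≠ 1) (hyz : y ≠ z) {b : G} (hb : b ∈ ws V y) {C : AddSubgroup M}
    (hC : ∀ m : M, R.phi b • m = m → m ∈ C) : C.index ≤ 2 * Nat.card (R.img (ww V cg y)) := by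
  have hz := h.ln.z_mem
  have hz1 := h.ln.z_ne
  have hbc : b ∈ centralizer ({z} : Set G) := h.ws_le_cg hy hy1 hb
  have hs : Function.Surjective (piHom h R) := fun m => by
    obtain ⟨w, hw, e⟩ := pi_surj' h R m.toAdd
    exact ⟨⟨w, hw⟩, congrArg Multiplicative.ofAdd e⟩
  have h0 : C.index = ((AddSubgroup.toSubgroup C).comap (piHom h R)).index := by
    rw [Subgroup.index_comap_of_surjective _ hs, AddSubgroup.index_toSubgroup]
  have h1 : (cb V z b).subgroupOf (ws V z) ≤ (AddSubgroup.toSubgroup C).comap (piHom h R) := by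
    intro w hw
    have hw' : (w : G) ∈ cb V z b := mem_subgroupOf.1 hw
    rw [h.mem_cb hz hz1] at hw'
    rw [mem_comap]
    have key : R.pi w ∈ C := by
      refine hC _ ?_
      rw [← sub_eq_zero, comm_pi h R hbc w.2, pi_ker' h R (mul_mem (conj_ws_z h hbc w.2) (inv_mem w.2))]
      have h2 := hw'.2
      rw [mem_zpowers_iff_of_mul_self h.ln.zz] at h2
      have e : b * (w : G) * b⁻¹ * (w : G)⁻¹ = (⁅(w : G), b⁆)⁻¹ := by
        rw [commutatorElement_def]; group
      rcases h2 with e1 | e1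
      · left; rw [e, e1, inv_one]
      · right; rw [e, e1]; exact inv_eq_self h.ln.zz
    exact key
  have h3 : C.index ≤ (cb V z b).relIndex (ws V z) := by
    rw [h0]
    exact Nat.le_of_dvd (Nat.pos_of_ne_zero Subgroup.index_ne_zero_of_finite) (Subgroup.index_dvd_of_le h1)
  rw [card_img h R hy hy1 hyz]
  exact h3.trans (h.cb_le hz hz1 hy hy1 hyz hb)

end index

/-- quotient modules -/
theorem exists_quot (C : AddSubgroup M) (hC : ∀ x : H, ∀ m ∈ C, x • m ∈ C) :
    ∃ (N : Type u) (_ : AddCommGroup N) (_ : DistribMulAction H N) (p : M →+ N), Function.Surjective p ∧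
      p.ker = C ∧ ∀ (x : H) (m : M), p (x • m) = x • p m := by
  let f : H → (M ⧸ C →+ M ⧸ C) := fun x => QuotientAddGroup.map C C (DistribSMul.toAddMonoidHom M x) (hC x)
  have hf : ∀ (x : H) (m : M), f x (QuotientAddGroup.mk m) = QuotientAddGroup.mk (x • m) := fun x m => rfl
  let iA : DistribMulAction H (M ⧸ C) :=
    { smul := fun x n => f x n
      one_smul := fun n => by
        obtain ⟨m, rfl⟩ := QuotientAddGroup.mk_surjective n
        change f 1 (QuotientAddGroup.mk m) = _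
        rw [hf, one_smul]
      mul_smul := fun x y n => by
        obtain ⟨m, rfl⟩ := QuotientAddGroup.mk_surjective n
        change f (x * y) (QuotientAddGroup.mk m) = f x (f y (QuotientAddGroup.mk m))
        rw [hf, hf, hf, mul_smul]
      smul_zero := fun x => map_zero (f x)
      smul_add := fun x m n => map_add (f x) m n }
  refine ⟨M ⧸ C, inferInstance, iA, QuotientAddGroup.mk' C, QuotientAddGroup.mk'_surjective C,
    QuotientAddGroup.ker_mk' C, fun x m => rfl⟩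

end Cfsg.Agent.Omega.NO3S.SLTwo

end

section


/-!
# NO-3S, `q = 2`, `n = 1`: the mixed case (helper311's text #18168 (2))

`h : One T V z`, `R : MRep V cg z M H`, `A = R.img (ww V cg y)`, `v0 = R.pi y`.

* `mix` : the abstract situation `Mix v0 A`; `o2_eq_bot` : `O₂(H) = 1`;
* `all_tv` : one `1 ≠ a ∈ A` is a transvection with centre `v0` implies that all are;
* `comm_mem_V` : then `[W_p, W_q] ≤ V` for all points `p ≠ q` of `V` (the hypothesis of `TV.tvf_of_one`).
-/

set_option autoImplicit false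
set_option linter.unusedSectionVars false

namespace Cfsg.Agent.Omega.NO3S.TwoOne.Mixed

open Subgroup Cfsg Cfsg.Agent.ZN Cfsg.Agent.MinSimple.Geo Cfsg.Agent.Omega.CaseL
open Cfsg.Agent.Omega.NO3S.Fit Cfsg.Agent.Omega.NO3S.TwoOne Cfsg.Agent.Omega.NO3S.SLTwo
open Cfsg.Agent.ZN.Block (conj_mem_of_normalizer conj_mem_of_normalizer' le_normalizer_of_forall
  mem_normalizer_of)

universe u

variable {G : Type u} [Group G] {T V : Subgroup G} {z : G} {M H : Type u} [AddCommGroup M] [Group H]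
  [DistribMulAction H M]

/-- `O₂(H) = 1` -/
theorem o2_eq_bot [Finite G] (h : One T V z) (R : MRep V cg z M H) {N : Subgroup H} (hN : N.Normal)
    (h2 : IsPGroup 2 N) : N = ⊥ := by
  have hpre := R.pre_le N
  have hpow : ∀ c ∈ cg z, ∀ k : ℕ, R.phi (c ^ k) = R.phi c ^ k := by
    intro c hc k
    exact map_pow R.hom ⟨c, hc⟩ k
  have h1 : R.pre N ≤ qq V cg z := by
    refine h.fam.o2h hpre ?_ ?_
    · refine le_normalizer_of_forall fun c hc' n hn => ?_
      rw [R.mem_pre] at hn ⊢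
      refine ⟨mul_mem (mul_mem hc' hn.1) (inv_mem hc'), ?_⟩
      rw [R.phi_mul _ (mul_mem hc' hn.1) _ (inv_mem hc'), R.phi_mul _ hc' _ hn.1, R.phi_inv hc']
      exact hN.conj_mem _ hn.2 _
    · intro n hn
      rw [R.mem_pre] at hn
      obtain ⟨k, hk⟩ := h2 ⟨R.phi n, hn.2⟩
      refine ⟨k, ?_⟩
      rw [← R.phi_ker _ (pow_mem hn.1 _), hpow n hn.1]
      exact congrArg Subtype.val hk
  rw [eq_bot_iff]
  intro x hx
  obtain ⟨f, hf, rfl⟩ := R.phi_surj x
  rw [mem_bot]
  exact (R.phi_ker f hf).mpr (h1 (R.mem_pre.mpr ⟨hf, hx⟩))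

theorem finite_H [Finite G] (R : MRep V cg z M H) : Finite H :=
  Finite.of_surjective R.phi fun x => by
    obtain ⟨c, -, e⟩ := R.phi_surj x
    exact ⟨c, e⟩

theorem finite_M [Finite G] (R : MRep V cg z M H) : Finite M :=
  Finite.of_surjective R.pi fun x => by
    obtain ⟨c, -, e⟩ := R.pi_surj x
    exact ⟨c, e⟩

/-- (VI) in `M`: `v0 + u` is in the orbit for a line vector `u ≠ v0` of `ii V / z` -/
theorem plane_pi [Finite G] (h : One T V z) (R : MRep V cg z M H) {y : G} (hy : y ∈ V) (hy1 : y ≠ 1) (hyz : y ≠ z)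
    {u : G} (hu : u ∈ ii V) {k : H} (hk : R.pi u = k • R.pi y) (hkv : k • R.pi y ≠ R.pi y) :
    ∃ l : H, R.pi y + k • R.pi y = l • R.pi y := by
  have hz := h.ln.z_mem
  have hz1 := h.ln.z_ne
  have hyW : y ∈ ws V z := h.V_le hz hz1 hy
  have huW : u ∈ ws V z := ii_le hz hz1 hu
  obtain ⟨c, hc, rfl⟩ := R.phi_surj k
  have hc' : c ∈ centralizer ({z} : Set G) := hc
  have hcy : c * y * c⁻¹ ∈ ws V z := conj_ws_z h hc' hyW
  have hne : R.phi c • R.pi y ≠ 0 := by
    intro e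
    rw [smul_eq_zero_iff_eq] at e
    exact R.v0_ne h.fam hy hy1 hyz e
  have hLc : cj c V ∈ lines V z := h.ln.cj_mem_lines hc'
  have hzL : z ∈ cj c V := hLc.2
  have huL : u ∈ cj c V := by
    rw [act' h R hc' hyW, pi_eq' h R huW hcy] at hk
    rcases hk with e | e
    · rw [e]; exact conj_mem_cj hy
    · rw [e]; exact mul_mem hzL (conj_mem_cj hy)
  have huV : u ∉ V := by
    intro hV
    rcases h.ln.four hz hy hz1 hy1 (Ne.symm hyz) hV with e | e | e | e
    · rw [e, (pi_ker' h R (one_mem _)).2 (Or.inl rfl)] at hk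
      exact hne hk.symm
    · rw [e, (pi_ker' h R (h.V_le hz hz1 hz)).2 (Or.inr rfl)] at hk
      exact hne hk.symm
    · rw [e] at hk; exact hkv hk.symm
    · rw [e, pi_mul' h R (h.V_le hz hz1 hz) hyW, (pi_ker' h R (h.V_le hz hz1 hz)).2 (Or.inr rfl), zero_add] at hk
      exact hkv hk.symm
  obtain ⟨U, hU, hVU, huU, -⟩ := h.exists_plane hu huV ⟨_, hLc, huL⟩
  have hyu : y * u ∉ V := fun e => huV (by
    have := mul_mem (inv_mem hy) e
    rwa [inv_mul_cancel_left] at this)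
  obtain ⟨L, hL, hyuL⟩ := hU.line z (hVU hz) (y * u) (mul_mem (hVU hy) huU) hz1
    (fun e => hyu (by rw [e]; exact one_mem _)) (fun e => hyu (by rw [← e]; exact hz))
  obtain ⟨d, hd, rfl⟩ := h.ln.exists_of_mem_lines hL
  have hx : d⁻¹ * (y * u) * d ∈ V := mem_cj.mp hyuL
  have hyuW : y * u ∈ ws V z := mul_mem hyW huW
  have hxW : d⁻¹ * (y * u) * d ∈ ws V z := h.V_le hz hz1 hx
  have e1 : R.pi (y * u) = R.phi d • R.pi (d⁻¹ * (y * u) * d) := by
    rw [act' h R hd hxW]
    congr 1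
    group
  have e2 : R.pi (y * u) = R.pi y + R.phi c • R.pi y := by rw [pi_mul' h R hyW huW, hk]
  have hyu0 : R.pi (y * u) ≠ 0 := by
    intro e
    rcases (pi_ker' h R hyuW).1 e with e | e
    · exact hyu (by rw [e]; exact one_mem _)
    · exact hyu (by rw [e]; exact hz)
  refine ⟨R.phi d, ?_⟩
  rw [← e2, e1]
  congr 1
  rcases h.ln.four hz hy hz1 hy1 (Ne.symm hyz) hx with e | e | e | e
  · exfalso
    apply hyu0
    rw [e1, e, (pi_ker' h R (one_mem _)).2 (Or.inl rfl), smul_zero]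
  · exfalso
    apply hyu0
    rw [e1, e, (pi_ker' h R (h.V_le hz hz1 hz)).2 (Or.inr rfl), smul_zero]
  · rw [e]
  · rw [e, pi_mul' h R (h.V_le hz hz1 hz) hyW, (pi_ker' h R (h.V_le hz hz1 hz)).2 (Or.inr rfl), zero_add]

/-- the abstract situation -/
theorem mix [Finite G] [Module (ZMod 2) M] (h : One T V z) (R : MRep V cg z M H) {y : G} (hy : y ∈ V) (hy1 : y ≠ 1)
    (hyz : y ≠ z) : Mix (R.pi y) (R.img (ww V cg y)) := by
  have hle : ww V cg y ≤ cg z := by rw [h.ww_cg hy hy1]; exact h.ws_le_cg hy hy1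
  exact
    { ne := R.v0_ne h.fam hy hy1 hyz
      span := R.span h.fam hy hy1 hyz
      o2 := fun N hN h2 => o2_eq_bot h R hN h2
      nor := by
        intro x hx a ha
        obtain ⟨w, hw, rfl⟩ := (R.mem_img hle).mp ha
        obtain ⟨w', hw', e, -⟩ := R.norm_A h.fam hy hy1 hy hy1 hyz hx hw
        rw [e]
        exact (R.mem_img hle).mpr ⟨w', hw', rfl⟩
      fix := by
        intro a ha
        obtain ⟨w, hw, rfl⟩ := (R.mem_img hle).mp ha
        exact R.A_v0 h.fam hy hy1 hy hw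
      quad := by
        intro a ha b hb m
        obtain ⟨w, hw, rfl⟩ := (R.mem_img hle).mp ha
        obtain ⟨v, hv, rfl⟩ := (R.mem_img hle).mp hb
        obtain ⟨n, hn, rfl⟩ := R.pi_surj m
        exact R.quad h.fam hy hy1 hyz hw hv hn
      plane := by
        intro a ha m k hk hkv
        obtain ⟨u, hu, e⟩ := comm_mem_jm h R hy hy1 hyz ha m
        exact plane_pi h R hy hy1 hyz hu (e.trans hk) hkv
      irr := by
        intro X hX hXt a ha m hm
        have h1 : X ≤ cc h R := (sub_cc h R hX).resolve_right hXt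
        exact sub_eq_zero.mp (jm_cc h R (comm_mem_jm h R hy hy1 hyz ha m) (h1 hm)) }

/-- **the mixed case**: one `1 ≠ a ∈ A` is a transvection with centre `v0` implies that all are. -/
theorem all_tv [Finite G] [FaithfulSMul H M] (h : One T V z) (R : MRep V cg z M H) {y : G} (hy : y ∈ V) (hy1 : y ≠ 1)
    (hyz : y ≠ z) {a0 : H} (ha0 : a0 ∈ R.img (ww V cg y)) (ha01 : a0 ≠ 1)
    (ht : ∀ m : M, a0 • m = m ∨ a0 • m = m + R.pi y) :
    ∀ a ∈ R.img (ww V cg y), ∀ m : M, a • m = m ∨ a • m = m + R.pi y := by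
  have := finite_H R
  have := finite_M R
  let _ : Module (ZMod 2) M := AddCommGroup.zmodModule (n := 2) fun m => by
    rw [two_nsmul]; exact R.two h.fam m
  exact (mix h R hy hy1 hyz).all ha0 ha01 ht

/-- then `[W_y, W_z] ≤ V` -/
theorem comm_mem_V_z [Finite G] [FaithfulSMul H M] (h : One T V z) (R : MRep V cg z M H) {y : G} (hy : y ∈ V)
    (hy1 : y ≠ 1) (hyz : y ≠ z) {a0 : H} (ha0 : a0 ∈ R.img (ww V cg y)) (ha01 : a0 ≠ 1)
    (ht : ∀ m : M, a0 • m = m ∨ a0 • m = m + R.pi y) {a b : G} (ha : a ∈ ws V y) (hb : b ∈ ws V z) :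
    a * b * a⁻¹ * b⁻¹ ∈ V := by
  have hz := h.ln.z_mem
  have hz1 := h.ln.z_ne
  have hle : ww V cg y ≤ cg z := by rw [h.ww_cg hy hy1]; exact h.ws_le_cg hy hy1
  have hac : a ∈ centralizer ({z} : Set G) := h.ws_le_cg hy hy1 ha
  have h1 := all_tv h R hy hy1 hyz ha0 ha01 ht (R.phi a)
    ((R.mem_img hle).mpr ⟨a, by rw [h.ww_cg hy hy1]; exact ha, rfl⟩) (R.pi b)
  have hyW : y ∈ ws V z := h.V_le hz hz1 hy
  have hcW : a * b * a⁻¹ * b⁻¹ ∈ ws V z := mul_mem (conj_ws_z h hac hb) (inv_mem hb)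
  have h2 : R.pi (a * b * a⁻¹ * b⁻¹) = 0 ∨ R.pi (a * b * a⁻¹ * b⁻¹) = R.pi y := by
    rw [← comm_pi h R hac hb]
    rcases h1 with e | e
    · left; rw [e, sub_self]
    · right; rw [e, add_sub_cancel_left]
  rcases h2 with e | e
  · rcases (pi_ker' h R hcW).1 e with e | e
    · rw [e]; exact one_mem _
    · rw [e]; exact hz
  · rcases (pi_eq' h R hcW hyW).1 e with e | e
    · rw [e]; exact hy
    · rw [e]; exact mul_mem hz hy

/-- **the mixed case**: if `A` contains a transvection `≠ 1` with centre `v0`, then `[W_p, W_q] ≤ V` for all points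
`p ≠ q` of `V`. -/
theorem comm_mem_V [Finite G] [FaithfulSMul H M] (h : One T V z) (R : MRep V cg z M H) {y : G} (hy : y ∈ V)
    (hy1 : y ≠ 1) (hyz : y ≠ z) {a0 : H} (ha0 : a0 ∈ R.img (ww V cg y)) (ha01 : a0 ≠ 1)
    (ht : ∀ m : M, a0 • m = m ∨ a0 • m = m + R.pi y) :
    ∀ p ∈ V, p ≠ 1 → ∀ q ∈ V, q ≠ 1 → q ≠ p → ∀ a ∈ ww V cg p, ∀ b ∈ ww V cg q, a * b * a⁻¹ * b⁻¹ ∈ V := by
  intro p hp hp1 q hq hq1 hqp a ha b hb
  have hf := h.fam
  obtain ⟨g, hg, e1, e2⟩ := hf.trans2 hp hp1 hq hq1 hqp hy hy1 h.ln.z_mem h.ln.z_ne (Ne.symm hyz)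
  have h1 := hf.conj_ww hg hp hp1 ha
  have h2 := hf.conj_ww hg hq hq1 hb
  rw [e1, h.ww_cg hy hy1] at h1
  rw [e2, h.ww_cg h.ln.z_mem h.ln.z_ne] at h2
  have h3 := comm_mem_V_z h R hy hy1 hyz ha0 ha01 ht h1 h2
  have e : g * a * g⁻¹ * (g * b * g⁻¹) * (g * a * g⁻¹)⁻¹ * (g * b * g⁻¹)⁻¹ = g * (a * b * a⁻¹ * b⁻¹) * g⁻¹ := by
    group
  rw [e] at h3
  exact (mem_normalizer_iff.mp hg _).mpr h3

/-- in the language of `W_y`: `a ∈ W_y ∖ K_z` with `[W_z, a] ≤ V` -/
theorem comm_mem_V' [Finite G] (h : One T V z) {y : G} (hy : y ∈ V) (hy1 : y ≠ 1) (hyz : y ≠ z)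
    {a0 : G} (ha0 : a0 ∈ ws V y) (ha01 : a0 ∉ kq V z) (ht : ∀ w ∈ ws V z, a0 * w * a0⁻¹ * w⁻¹ ∈ V) :
    ∀ p ∈ V, p ≠ 1 → ∀ q ∈ V, q ≠ 1 → q ≠ p → ∀ a ∈ ww V cg p, ∀ b ∈ ww V cg q, a * b * a⁻¹ * b⁻¹ ∈ V := by
  obtain ⟨M, H, i1, i2, i3, i4, i5, i6, ⟨R⟩⟩ := h.fam.exists_mrep
  have hz := h.ln.z_mem
  have hz1 := h.ln.z_ne
  have hle : ww V cg y ≤ cg z := by rw [h.ww_cg hy hy1]; exact h.ws_le_cg hy hy1
  have hac : a0 ∈ centralizer ({z} : Set G) := h.ws_le_cg hy hy1 ha0
  have hyW : y ∈ ws V z := h.V_le hz hz1 hy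
  refine comm_mem_V h R hy hy1 hyz (a0 := R.phi a0)
    ((R.mem_img hle).mpr ⟨a0, by rw [h.ww_cg hy hy1]; exact ha0, rfl⟩)
    (fun e => ha01 ((h.phi_eq_one R hac).mp e)) fun m => ?_
  obtain ⟨w, hw, rfl⟩ := pi_surj' h R m
  have h1 := comm_pi h R hac hw
  rcases h.ln.four hz hy hz1 hy1 (Ne.symm hyz) (ht w hw) with e | e | e | e
  · left
    rw [e, (pi_ker' h R (one_mem _)).2 (Or.inl rfl)] at h1
    exact sub_eq_zero.mp h1
  · left
    rw [e, (pi_ker' h R (h.V_le hz hz1 hz)).2 (Or.inr rfl)] at h1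
    exact sub_eq_zero.mp h1
  · right
    rw [e] at h1
    rw [← h1]; abel
  · right
    rw [e, pi_mul' h R (h.V_le hz hz1 hz) hyW, (pi_ker' h R (h.V_le hz hz1 hz)).2 (Or.inr rfl), zero_add] at h1
    rw [← h1]; abel

end Cfsg.Agent.Omega.NO3S.TwoOne.Mixed

end

end

-- merged: Cfsg.Agent.Mrg.Omega.NOne.Nat
section

section


/-!
# NO-1, LEMMA NAT (text #11695 (3) of helper389, referee report #12877 of helper926), K-free

`S ≤ P`, `P` of characteristic 2, `V` abelian, normal in the 2-group `S`, `V ≰ Q = O₂(P)`,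
`K = O²(P) ≤ ⟨V^P⟩`, `N = [Q, K]`; `l ≤ V`.

`(nat)` `[V, R] = C_V(R) = l` for every `R ≤ Ê` normalised by `S` and acting nontrivially on `V`
(`V` natural for `SL₂(q')^k'`, `k' ≤ 2`, `Ê / C(V)` a Sylow 2-subgroup, `l = C_V(Ê)`);
`(irr)` every subgroup of `V` containing `l` and normalised by `S` and `T` is `l` or `V` (`T` a torus,
normalising `V` and `l`).

* `Hyp.not_cent` : `[l, K] ≠ 1` in a group of characteristic 2 type (part (i));
* `Hyp.ff` : if `[l, K] ≠ 1`, then `N` is abelian, `N = ⟨l^P⟩`, `[N, K] = N ≠ 1`, and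
  `V ∩ Q = V ∩ N = C_V(N) = [V, N] = l` (part (ii));
* `Hyp.card_le` : `|N : C_N(V)| ≤ |V : V ∩ Q|` if `|Ê : C_Ê(V)| ≤ |V : l|`: the group `VQ/Q` is an
  FF-offender on `N`.
-/

set_option autoImplicit false

namespace Cfsg.Agent.Omega.NOne.NatLem

open Subgroup Cfsg Cfsg.Agent.MinSimple.VModule Cfsg.Agent.MinSimple.Basic
open Cfsg.Agent.ZN (o2)
open Cfsg.Agent.Omega.NOne.Frame (norm_mem norm_mem' comm_of_le_centralizer le_centralizer_of_comm)
open scoped commutatorElement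

universe u

variable {G : Type u} [Group G]

/-! ### General facts -/

theorem le_normalizer_of {T U : Subgroup G} (h : ∀ t ∈ T, ∀ x ∈ U, t * x * t⁻¹ ∈ U) :
    T ≤ normalizer (U : Set G) := by
  intro s hs
  refine mem_normalizer_iff.mpr fun x => ⟨h s hs x, fun hx => ?_⟩
  have h3 := h s⁻¹ (inv_mem hs) _ hx
  have h4 : s⁻¹ * (s * x * s⁻¹) * s⁻¹⁻¹ = x := by group
  rwa [h4] at h3

theorem le_normalizer_commutator {X A B : Subgroup G} (hA : X ≤ normalizer (A : Set G))
    (hB : X ≤ normalizer (B : Set G)) : X ≤ normalizer ((⁅A, B⁆ : Subgroup G) : Set G) := by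
  refine le_normalizer_of fun x hx y hy => ?_
  have h1 : ⁅A, B⁆ ≤ (⁅A, B⁆ : Subgroup G).comap (MulAut.conj x).toMonoidHom := by
    rw [commutator_le]
    intro a ha b hb
    change x * ⁅a, b⁆ * x⁻¹ ∈ (⁅A, B⁆ : Subgroup G)
    have e : x * ⁅a, b⁆ * x⁻¹ = ⁅x * a * x⁻¹, x * b * x⁻¹⁆ := by
      simp only [commutatorElement_def]; group
    rw [e]
    exact commutator_mem_commutator (norm_mem (hA hx) ha) (norm_mem (hB hx) hb)
  exact h1 hy

theorem le_normalizer_inf {X A B : Subgroup G} (hA : X ≤ normalizer (A : Set G))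
    (hB : X ≤ normalizer (B : Set G)) : X ≤ normalizer ((A ⊓ B : Subgroup G) : Set G) :=
  le_normalizer_of fun _ hx _ hy =>
    mem_inf.2 ⟨norm_mem (hA hx) (mem_inf.1 hy).1, norm_mem (hB hx) (mem_inf.1 hy).2⟩

theorem exists_pow_of_two {F : Subgroup G} (hF : IsPGroup 2 F) {f : G} (hf : f ∈ F) :
    ∃ k : ℕ, f ^ 2 ^ k = 1 := by
  obtain ⟨k, hk⟩ := hF ⟨f, hf⟩
  exact ⟨k, congrArg Subtype.val hk⟩

/-- An element of odd order of a 2-group is trivial. -/
theorem eq_one_of_odd {x : G} (hx : Odd (orderOf x)) (h2 : ∃ k : ℕ, x ^ 2 ^ k = 1) : x = 1 := by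
  obtain ⟨k, hk⟩ := h2
  have h5 : orderOf x ∣ 2 ^ k := orderOf_dvd_of_pow_eq_one hk
  have h6 : (orderOf x).Coprime (2 ^ k) := Nat.Coprime.pow_right k (Nat.coprime_two_right.mpr hx)
  exact orderOf_eq_one_iff.1 (Nat.eq_one_of_dvd_coprimes h6 dvd_rfl h5)

/-- An element `x` of odd order moving `q` by a 2-element `f` commuting with `x` centralises `q`. -/
theorem odd_fix {x q f : G} (hx : Odd (orderOf x)) (hf : x * q * x⁻¹ = f * q)
    (hxf : x * f = f * x) (h2 : ∃ k : ℕ, f ^ 2 ^ k = 1) : f = 1 := by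
  have h1 := LemmaT.pow_conj_eq hf hxf (orderOf x)
  rw [pow_orderOf_eq_one, one_mul, inv_one, mul_one] at h1
  have h3 : f ^ orderOf x = 1 := (mul_eq_right.1 h1.symm)
  obtain ⟨k, hk⟩ := h2
  have h4 : orderOf f ∣ orderOf x := orderOf_dvd_of_pow_eq_one h3
  have h5 : orderOf f ∣ 2 ^ k := orderOf_dvd_of_pow_eq_one hk
  have h6 : (orderOf x).Coprime (2 ^ k) := Nat.Coprime.pow_right k (Nat.coprime_two_right.mpr hx)
  exact orderOf_eq_one_iff.1 (Nat.eq_one_of_dvd_coprimes h6 h4 h5)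

/-- `[Q, O²(P), O²(P)] = [Q, O²(P)]` for a 2-group `Q` normalised by `P`. -/
theorem comm_comm [Finite G] {P Q : Subgroup G} (hQ : IsPGroup 2 Q)
    (hPQ : P ≤ normalizer (Q : Set G)) :
    ⁅⁅Q, oddGen P⁆, oddGen P⁆ = ⁅Q, oddGen P⁆ := by
  have hKQ : oddGen P ≤ normalizer (Q : Set G) := (oddGen_le P).trans hPQ
  have hKK : oddGen P ≤ normalizer (oddGen P : Set G) := le_normalizer
  set M : Subgroup G := ⁅⁅Q, oddGen P⁆, oddGen P⁆ with hM
  have hKM : oddGen P ≤ normalizer (M : Set G) :=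
    le_normalizer_commutator (le_normalizer_commutator hKQ hKK) hKK
  refine le_antisymm (Lib.CoprimeCommutator.commutator_le_left (le_normalizer_commutator hKQ hKK)) ?_
  have key : ∀ k ∈ oddGen P, ∀ q ∈ Q, ⁅q, k⁆ ∈ M := by
    intro k hk
    rw [oddGen_def] at hk
    induction hk using closure_induction with
    | mem x hx =>
      intro q hq
      have hxK : x ∈ oddGen P := mem_oddGen hx.1 hx.2
      have hzK : zpowers x ≤ oddGen P := (zpowers_le).2 hxK
      have hcop : (Nat.card (zpowers x)).Coprime (Nat.card Q) := by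
        rw [Nat.card_zpowers]
        obtain ⟨n, hn⟩ := IsPGroup.iff_card.1 hQ
        rw [hn]
        exact Nat.Coprime.pow_right n (Nat.coprime_two_right.mpr hx.2)
      have h1 := Lib.CoprimeCommutator.commutator_commutator_eq (zpowers x) Q (hzK.trans hKQ) hcop
      have h2 : ⁅q, x⁆ ∈ ⁅Q, zpowers x⁆ := commutator_mem_commutator hq (mem_zpowers x)
      rw [← h1] at h2
      exact commutator_mono (commutator_mono le_rfl hzK) hzK h2
    | one => intro q _; simp
    | mul x y hx hy ihx ihy =>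
      intro q hq
      have hx' : x ∈ oddGen P := by rw [oddGen_def]; exact hx
      have h3 : ⁅q, x * y⁆ = ⁅q, x⁆ * (x * ⁅q, y⁆ * x⁻¹) := by
        simp only [commutatorElement_def]; group
      rw [h3]
      exact mul_mem (ihx q hq) (norm_mem (hKM hx') (ihy q hq))
    | inv x hx ih =>
      intro q hq
      have hx' : x ∈ oddGen P := by rw [oddGen_def]; exact hx
      have h3 : ⁅q, x⁻¹⁆ = x⁻¹ * ⁅q, x⁆⁻¹ * x := by
        simp only [commutatorElement_def]; group
      rw [h3]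
      exact norm_mem' (hKM hx') (inv_mem (ih q hq))
  rw [commutator_le]
  exact fun q hq k hk => key k hk q hq

/-! ### LEMMA NAT -/

/-- The situation of LEMMA NAT. -/
structure Hyp (S P V l Eh : Subgroup G) : Prop where
  sup : oddGen P ⊔ S = P
  two : IsPGroup 2 S
  Q_le : o2 P ≤ S
  char2 : P ⊓ centralizer (o2 P : Set G) ≤ o2 P
  comm : V ≤ centralizer (V : Set G)
  VS : V ≤ S
  SV : S ≤ normalizer (V : Set G)
  VQ : ¬ V ≤ o2 P
  gen : ∀ R : Subgroup G, R ≤ P → V ≤ R → P ≤ normalizer (R : Set G) → oddGen P ≤ R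
  acts : ⁅o2 P, oddGen P⁆ ≤ Eh
  nat : ∀ R : Subgroup G, R ≤ Eh → S ≤ normalizer (R : Set G) → ¬ R ≤ centralizer (V : Set G) →
    ⁅V, R⁆ = l ∧ V ⊓ centralizer (R : Set G) = l

/-- `⟨l^P⟩` -/
def J (P l : Subgroup G) : Subgroup G := closure {x | ∃ p ∈ P, ∃ a ∈ l, p * a * p⁻¹ = x}

theorem le_J (P l : Subgroup G) : l ≤ J P l := fun a ha =>
  subset_closure ⟨1, one_mem _, a, ha, by group⟩

theorem le_normalizer_J (P l : Subgroup G) : P ≤ normalizer (J P l : Set G) := by
  refine le_normalizer_of fun x hx y hy => ?_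
  have h1 : J P l ≤ (J P l).comap (MulAut.conj x).toMonoidHom := by
    refine (closure_le _).mpr ?_
    rintro _ ⟨p, hp, a, ha, rfl⟩
    refine subset_closure ⟨x * p, mul_mem hx hp, a, ha, ?_⟩
    change x * p * a * (x * p)⁻¹ = x * (p * a * p⁻¹) * x⁻¹
    group
  exact h1 hy

theorem J_le {P l U : Subgroup G} (h : l ≤ U) (hU : P ≤ normalizer (U : Set G)) : J P l ≤ U := by
  refine (closure_le _).mpr ?_
  rintro _ ⟨p, hp, a, ha, rfl⟩
  exact norm_mem (hU hp) (h ha)

/-- `N = [O₂(P), O²(P)]` -/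
abbrev N (P : Subgroup G) : Subgroup G := ⁅o2 P, oddGen P⁆

theorem le_normalizer_N (P : Subgroup G) : P ≤ normalizer (N P : Set G) :=
  le_normalizer_commutator (le_normalizer_o2 P) (le_normalizer_oddGen P)

theorem N_le_o2 (P : Subgroup G) : N P ≤ o2 P :=
  Lib.CoprimeCommutator.commutator_le_left ((oddGen_le P).trans (le_normalizer_o2 P))

/-- `[N, K] = N` -/
theorem comm_N [Finite G] (P : Subgroup G) : ⁅N P, oddGen P⁆ = N P :=
  comm_comm (o2_isPGroup P) (le_normalizer_o2 P)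

namespace Hyp

variable {S P V l Eh : Subgroup G} (h : Hyp S P V l Eh)
include h

theorem SP : S ≤ P := h.sup ▸ le_sup_right

theorem VP : V ≤ P := h.VS.trans h.SP

theorem N_le_S : N P ≤ S := (N_le_o2 P).trans h.Q_le

/-- `K` centralises a subgroup normalised by `P` and centralised by `V`. -/
theorem cent_of {U : Subgroup G} (hU : P ≤ normalizer (U : Set G))
    (hV : V ≤ centralizer (U : Set G)) : oddGen P ≤ centralizer (U : Set G) :=
  (h.gen (P ⊓ centralizer (U : Set G)) inf_le_left (le_inf h.VP hV)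
    (le_normalizer_inf le_normalizer
      (hU.trans (LemmaT.normalizer_le_normalizer_centralizer U)))).trans inf_le_right

/-- `K` centralises a subgroup normalised by `K` and centralised by `V`. -/
theorem cent_of' {U : Subgroup G} (hU : oddGen P ≤ normalizer (U : Set G))
    (hV : V ≤ centralizer (U : Set G)) : oddGen P ≤ centralizer (U : Set G) := by
  set R : Subgroup G := closure {x | ∃ k ∈ oddGen P, ∃ v ∈ V, k * v * k⁻¹ = x} with hR
  have hRP : R ≤ P := by
    refine (closure_le _).mpr ?_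
    rintro _ ⟨k, hk, v, hv, rfl⟩
    exact mul_mem (mul_mem (oddGen_le P hk) (h.VP hv)) (inv_mem (oddGen_le P hk))
  have hVR : V ≤ R := fun v hv => subset_closure ⟨1, one_mem _, v, hv, by group⟩
  have hn : P ≤ normalizer (R : Set G) := by
    rw [← h.sup]
    refine sup_le ?_ ?_
    · refine le_normalizer_of fun x hx y hy => ?_
      have h1 : R ≤ R.comap (MulAut.conj x).toMonoidHom := by
        refine (closure_le _).mpr ?_
        rintro _ ⟨k, hk, v, hv, rfl⟩
        refine subset_closure ⟨x * k, mul_mem hx hk, v, hv, ?_⟩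
        change x * k * v * (x * k)⁻¹ = x * (k * v * k⁻¹) * x⁻¹
        group
      exact h1 hy
    · refine le_normalizer_of fun x hx y hy => ?_
      have h1 : R ≤ R.comap (MulAut.conj x).toMonoidHom := by
        refine (closure_le _).mpr ?_
        rintro _ ⟨k, hk, v, hv, rfl⟩
        refine subset_closure ⟨x * k * x⁻¹, norm_mem (le_normalizer_oddGen P (h.SP hx)) hk,
          x * v * x⁻¹, norm_mem (h.SV hx) hv, ?_⟩
        change x * k * x⁻¹ * (x * v * x⁻¹) * (x * k * x⁻¹)⁻¹ = x * (k * v * k⁻¹) * x⁻¹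
        group
      exact h1 hy
  have h2 : R ≤ centralizer (U : Set G) := by
    refine (closure_le _).mpr ?_
    rintro _ ⟨k, hk, v, hv, rfl⟩
    refine mem_centralizer_iff.2 fun u hu => ?_
    have h3 := mem_centralizer_iff.1 (hV hv) _ (norm_mem' (hU hk) hu)
    calc u * (k * v * k⁻¹) = k * ((k⁻¹ * u * k) * v) * k⁻¹ := by group
      _ = k * (v * (k⁻¹ * u * k)) * k⁻¹ := by rw [h3]
      _ = k * v * k⁻¹ * u := by group
  exact (h.gen R hRP hVR hn).trans h2

/-- `K = O²(P)` is not a 2-group. -/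
theorem not_two {H : Subgroup G} (hH : IsPGroup 2 H) (hK : oddGen P ≤ H) : False := by
  have h1 : oddGen P = ⊥ := by
    rw [eq_bot_iff]
    conv_lhs => rw [oddGen_def]
    refine (closure_le _).mpr ?_
    rintro x ⟨hx, ho⟩
    exact mem_bot.2 (eq_one_of_odd ho (exists_pow_of_two hH (hK (mem_oddGen hx ho))))
  have h2 : P = S := by
    have := h.sup
    rw [h1, bot_sup_eq] at this
    exact this.symm
  have h3 : P ≤ o2 P := le_o2 le_rfl (by rw [h2]; exact h.two) le_normalizer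
  exact h.VQ (h.VP.trans h3)

/-- `N = [O₂(P), K] ≠ 1` -/
theorem N_ne_bot : N P ≠ ⊥ := by
  intro h1
  rw [N, commutator_comm, commutator_eq_bot_iff_le_centralizer] at h1
  exact h.not_two (o2_isPGroup P) ((le_inf (oddGen_le P) h1).trans h.char2)

theorem S_norm_N : S ≤ normalizer (N P : Set G) := h.SP.trans (le_normalizer_N P)

variable [Finite G]

/-- `N` acts nontrivially on `V`. -/
theorem N_not : ¬ N P ≤ centralizer (V : Set G) := by
  intro h1
  have h2 : V ≤ centralizer (N P : Set G) := le_centralizer_iff.1 h1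
  have h3 := h.cent_of (le_normalizer_N P) h2
  have h4 : ⁅N P, oddGen P⁆ = ⊥ := by
    rw [commutator_comm, commutator_eq_bot_iff_le_centralizer]
    exact h3
  rw [comm_N] at h4
  exact h.N_ne_bot h4

/-- `[V, N] = l` -/
theorem comm_VN : ⁅V, N P⁆ = l := (h.nat _ h.acts h.S_norm_N h.N_not).1

/-- `C_V(N) = l` -/
theorem V_inf_centralizer_N : V ⊓ centralizer (N P : Set G) = l :=
  (h.nat _ h.acts h.S_norm_N h.N_not).2

theorem l_le_V : l ≤ V := by
  have := h.V_inf_centralizer_N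
  exact this ▸ inf_le_left

theorem l_le_N : l ≤ N P := by
  have h1 : ⁅V, N P⁆ ≤ N P := by
    rw [commutator_comm]
    exact Lib.CoprimeCommutator.commutator_le_left (h.VP.trans (le_normalizer_N P))
  rwa [h.comm_VN] at h1

theorem l_cent_N : l ≤ centralizer (N P : Set G) := by
  have := h.V_inf_centralizer_N
  exact this ▸ inf_le_right

theorem S_norm_l : S ≤ normalizer (l : Set G) := by
  have h1 := le_normalizer_commutator h.SV h.S_norm_N
  rwa [h.comm_VN] at h1

theorem l_ne_bot : l ≠ ⊥ := by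
  intro h1
  have h2 := h.comm_VN
  rw [h1, commutator_comm, commutator_eq_bot_iff_le_centralizer] at h2
  exact h.N_not h2

/-- **LEMMA NAT (i).** `[l, K] ≠ 1`, if `N_G(l)` has characteristic 2. -/
theorem not_cent' {T : Subgroup G}
    (hc : normalizer (l : Set G) ⊓ centralizer (o2 (normalizer (l : Set G)) : Set G) ≤
      o2 (normalizer (l : Set G)))
    (hS : o2 (normalizer (l : Set G)) ≤ S)
    (hTV : T ≤ normalizer (V : Set G)) (hTl : T ≤ normalizer (l : Set G))
    (irr : ∀ U : Subgroup G, l ≤ U → U ≤ V → S ≤ normalizer (U : Set G) →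
      T ≤ normalizer (U : Set G) → U = l ∨ U = V) :
    ¬ oddGen P ≤ centralizer (l : Set G) := by
  intro hK
  set M : Subgroup G := normalizer (l : Set G) with hM
  have hKM : oddGen P ≤ M := hK.trans (LemmaT.centralizer_le_normalizer' l)
  have hPM : P ≤ M := by
    rw [← h.sup]
    exact sup_le hKM h.S_norm_l
  -- `H₀ = O₂(N_G(l)) ≤ O₂(P)`
  have hH : o2 M ≤ o2 P :=
    le_o2 (hS.trans h.SP) (o2_isPGroup M) (hPM.trans (le_normalizer_o2 M))
  -- `V ∩ H₀ = l`
  have hl : l ≤ o2 M := le_o2 le_normalizer (h.two.to_le (h.l_le_V.trans h.VS)) le_rfl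
  have hVH : V ⊓ o2 M = l := by
    refine (irr _ (le_inf h.l_le_V hl) inf_le_left
      (le_normalizer_inf h.SV (h.S_norm_l.trans (le_normalizer_o2 M)))
      (le_normalizer_inf hTV (hTl.trans (le_normalizer_o2 M)))).resolve_right fun h1 => ?_
    exact h.VQ ((inf_eq_left.1 h1).trans hH)
  -- `[H₀, K] ≤ l`
  have h2 : V ≤ Frame.stab P (o2 M) l hPM := by
    refine fun v hv => ⟨h.VP hv, fun r hr => ?_⟩
    rw [← hVH]
    refine Frame.comm_mem_inf ((h.VP.trans hPM).trans (le_normalizer_o2 M)) ?_ hv hr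
    exact hS.trans h.SV
  have h3 : P ≤ normalizer (Frame.stab P (o2 M) l hPM : Set G) := by
    refine le_normalizer_of fun x hx y hy => ⟨mul_mem (mul_mem hx hy.1) (inv_mem hx), fun r hr => ?_⟩
    have h4 := hy.2 _ (norm_mem' (le_normalizer_o2 M (hPM hx)) hr)
    have e : x * y * x⁻¹ * r * (x * y * x⁻¹)⁻¹ * r⁻¹ =
        x * (y * (x⁻¹ * r * x) * y⁻¹ * (x⁻¹ * r * x)⁻¹) * x⁻¹ := by group
    rw [e]
    exact norm_mem (hPM hx) h4
  have h4 : oddGen P ≤ Frame.stab P (o2 M) l hPM := h.gen _ (fun x hx => hx.1) h2 h3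
  have h5 : oddGen P ≤ centralizer (o2 M : Set G) := by
    conv_lhs => rw [oddGen_def]
    refine (closure_le _).mpr ?_
    rintro x ⟨hx, ho⟩
    have hxK := mem_oddGen hx ho
    refine mem_centralizer_iff.2 fun r hr => ?_
    have h6 := (h4 hxK).2 r hr
    have h7 : x * r * x⁻¹ * r⁻¹ = 1 :=
      odd_fix (x := x) (q := r) ho (by group) (mem_centralizer_iff.1 (hK hxK) _ h6).symm
        (exists_pow_of_two (o2_isPGroup M) (hl h6))
    calc r * x = x * r * x⁻¹ * r⁻¹ * (r * x) := by rw [h7, one_mul]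
      _ = x * r := by group
  exact h.not_two (o2_isPGroup M) ((le_inf hKM h5).trans hc)

/-- The conclusion of LEMMA NAT (ii). -/
structure _root_.Cfsg.Agent.Omega.NOne.NatLem.Out (P V l : Subgroup G) : Prop where
  /-- `N` is abelian -/
  abel : N P ≤ centralizer (N P : Set G)
  /-- `N = ⟨l^P⟩` -/
  eq_J : N P = J P l
  /-- `[V, N] = l` -/
  comm : ⁅V, N P⁆ = l
  /-- `V ∩ O₂(P) = l` -/
  VQ : V ⊓ o2 P = l
  /-- `V ∩ N = l` -/
  VN : V ⊓ N P = l
  /-- `C_V(N) = l` -/
  CVN : V ⊓ centralizer (N P : Set G) = l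
  /-- `[N, V] ≠ 1` -/
  not_cent : ¬ N P ≤ centralizer (V : Set G)

/-- **LEMMA NAT (ii).** -/
theorem out (hl : ¬ oddGen P ≤ centralizer (l : Set G)) : Out P V l := by
  have hPN := le_normalizer_N P
  have hJN : J P l ≤ N P := J_le h.l_le_N hPN
  have hJZ : J P l ≤ centralizer (N P : Set G) :=
    J_le h.l_cent_N (hPN.trans (LemmaT.normalizer_le_normalizer_centralizer _))
  have hNJ : N P ≤ centralizer (J P l : Set G) := le_centralizer_iff.1 hJZ
  have hJV : ¬ J P l ≤ centralizer (V : Set G) := by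
    intro h1
    refine hl ((h.cent_of (le_normalizer_J P l) (le_centralizer_iff.1 h1)).trans ?_)
    exact centralizer_le (le_J P l)
  have hCJ : V ⊓ centralizer (J P l : Set G) = l :=
    (h.nat _ (hJN.trans h.acts) (h.SP.trans (le_normalizer_J P l)) hJV).2
  have hVN : V ⊓ N P = l := by
    refine le_antisymm ?_ (le_inf h.l_le_V h.l_le_N)
    rw [← hCJ]
    exact inf_le_inf_left V hNJ
  -- `N ≤ J`
  have hle : N P ≤ J P l := by
    have h2 : V ≤ Frame.stab P (N P) (J P l) (le_normalizer_J P l) := by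
      refine fun v hv => ⟨h.VP hv, fun r hr => le_J P l ?_⟩
      rw [← h.comm_VN]
      exact commutator_mem_commutator hv hr
    have h3 : P ≤ normalizer (Frame.stab P (N P) (J P l) (le_normalizer_J P l) : Set G) := by
      refine le_normalizer_of fun x hx y hy =>
        ⟨mul_mem (mul_mem hx hy.1) (inv_mem hx), fun r hr => ?_⟩
      have h4 := hy.2 _ (norm_mem' (hPN hx) hr)
      have e : x * y * x⁻¹ * r * (x * y * x⁻¹)⁻¹ * r⁻¹ =
          x * (y * (x⁻¹ * r * x) * y⁻¹ * (x⁻¹ * r * x)⁻¹) * x⁻¹ := by group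
      rw [e]
      exact norm_mem (le_normalizer_J P l hx) h4
    have h4 : oddGen P ≤ Frame.stab P (N P) (J P l) (le_normalizer_J P l) :=
      h.gen _ (fun x hx => hx.1) h2 h3
    rw [← comm_N P, commutator_le]
    intro n hn k hk
    have h5 := inv_mem ((h4 hk).2 n hn)
    have e : (k * n * k⁻¹ * n⁻¹)⁻¹ = ⁅n, k⁆ := by rw [commutatorElement_def]; group
    rwa [e] at h5
  have hab : N P ≤ centralizer (N P : Set G) := hle.trans hJZ
  -- `V ∩ Q ≤ C(N)`
  have hE : V ⊓ o2 P ≤ centralizer (N P : Set G) := by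
    intro d hd
    obtain ⟨hdV, hdQ⟩ := mem_inf.1 hd
    have hdN : d ∈ normalizer (N P : Set G) := hPN (h.VP hdV)
    have hc : ∀ a ∈ N P, ∀ b ∈ N P, a * b = b * a := fun a ha b hb =>
      comm_of_le_centralizer hab ha hb
    have hφ : ∀ n ∈ N P, n * d * n⁻¹ * d⁻¹ ∈ N P := by
      intro n hn
      have e : n * d * n⁻¹ * d⁻¹ = n * (d * n⁻¹ * d⁻¹) := by group
      rw [e]
      exact mul_mem hn (norm_mem hdN (inv_mem hn))
    -- equivariance
    have heq : ∀ k ∈ oddGen P, ∀ n ∈ N P,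
        k * (n * d * n⁻¹ * d⁻¹) * k⁻¹ = (k * n * k⁻¹) * d * (k * n * k⁻¹)⁻¹ * d⁻¹ := by
      intro k hk n hn
      have hn' : k * n * k⁻¹ ∈ N P := norm_mem (hPN (oddGen_le P hk)) hn
      set m := k * n * k⁻¹ with hm
      have hcN : k * d * k⁻¹ * d⁻¹ ∈ N P := by
        rw [N, commutator_comm]
        exact commutator_mem_commutator hk hdQ
      set c := k * d * k⁻¹ * d⁻¹ with hc'
      have e1 : k * (n * d * n⁻¹ * d⁻¹) * k⁻¹ = m * (c * d) * m⁻¹ * (c * d)⁻¹ := by
        rw [hm, hc']; group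
      have e2 : m * (c * d) * m⁻¹ * (c * d)⁻¹ = (m * c) * (d * m⁻¹ * d⁻¹) * c⁻¹ := by group
      have e3 : c * (m * (d * m⁻¹ * d⁻¹)) = m * (d * m⁻¹ * d⁻¹) * c :=
        hc c hcN _ (mul_mem hn' (norm_mem hdN (inv_mem hn')))
      rw [e1, e2, hc m hn' c hcN, mul_assoc c m, e3, mul_inv_cancel_right]
      group
    set U : Subgroup G := closure {x | ∃ n ∈ N P, n * d * n⁻¹ * d⁻¹ = x} with hU
    have hUV : U ≤ V := by
      refine (closure_le _).mpr ?_
      rintro _ ⟨n, hn, rfl⟩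
      exact mul_mem (norm_mem (h.SV (h.N_le_S hn)) hdV) (inv_mem hdV)
    have hKU : oddGen P ≤ normalizer (U : Set G) := by
      refine le_normalizer_of fun k hk y hy => ?_
      have h1 : U ≤ U.comap (MulAut.conj k).toMonoidHom := by
        refine (closure_le _).mpr ?_
        rintro _ ⟨n, hn, rfl⟩
        refine subset_closure ⟨k * n * k⁻¹, norm_mem (hPN (oddGen_le P hk)) hn, ?_⟩
        exact (heq k hk n hn).symm
      exact h1 hy
    have hVU : V ≤ centralizer (U : Set G) := h.comm.trans (centralizer_le hUV)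
    have hKc := h.cent_of' hKU hVU
    have h6 : N P ≤ centralizer {d} := by
      rw [← comm_N P, commutator_le]
      intro n hn k hk
      have hmem : n * d * n⁻¹ * d⁻¹ ∈ U := subset_closure ⟨n, hn, rfl⟩
      have h7 := mem_centralizer_iff.1 (hKc hk) _ hmem
      have h8 := heq k hk n hn
      rw [← h7, mul_inv_cancel_right] at h8
      have hn' : k * n * k⁻¹ ∈ N P := norm_mem (hPN (oddGen_le P hk)) hn
      set m := k * n * k⁻¹ with hm
      have h9 : n * d * n⁻¹ = m * d * m⁻¹ := mul_right_cancel h8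
      have h10 : ⁅n, k⁆ = m⁻¹ * n := by
        rw [← hc n hn m⁻¹ (inv_mem hn'), hm, commutatorElement_def]; group
      rw [h10, mem_centralizer_singleton_iff]
      calc m⁻¹ * n * d = m⁻¹ * (n * d * n⁻¹) * n := by group
        _ = m⁻¹ * (m * d * m⁻¹) * n := by rw [h9]
        _ = d * (m⁻¹ * n) := by group
    exact mem_centralizer_iff.2 fun n hn => mem_centralizer_singleton_iff.1 (h6 hn)
  refine ⟨hab, le_antisymm hle hJN, h.comm_VN, ?_, hVN, h.V_inf_centralizer_N, h.N_not⟩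
  refine le_antisymm ?_ (le_inf h.l_le_V (h.l_le_N.trans (N_le_o2 P)))
  rw [← h.V_inf_centralizer_N]
  exact le_inf inf_le_left hE

/-- `V ∩ O₂(P) = l` and `|N : C_N(V)| ≤ |V : l|`: `V O₂(P) / O₂(P)` is an FF-offender on `N`. -/
theorem card_le (hcard : (Eh ⊓ centralizer (V : Set G)).relIndex Eh ≤ l.relIndex V) :
    (N P ⊓ centralizer (V : Set G)).relIndex (N P) ≤ l.relIndex V := by
  refine le_trans ?_ hcard
  rw [inf_relIndex_left, inf_relIndex_left]
  exact relIndex_le_of_le_right h.acts index_ne_zero_of_finite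

end Hyp

namespace Out

variable {P V l : Subgroup G} (h : Out P V l)
include h

/-- `N` is elementary abelian if `V` is. -/
theorem sq (hsq : ∀ v ∈ V, v ^ 2 = 1) {n : G} (hn : n ∈ N P) : n ^ 2 = 1 := by
  have h1 : N P ≤ normalizer (N P : Set G) := le_normalizer
  rw [h.eq_J, J] at hn
  induction hn using closure_induction with
  | mem x hx =>
    obtain ⟨p, hp, a, ha, rfl⟩ := hx
    have h2 : a ^ 2 = 1 := hsq a (h.VQ ▸ ha : a ∈ V ⊓ o2 P).1
    rw [conj_pow, h2, mul_one, mul_inv_cancel]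
  | one => exact one_pow 2
  | mul x y hx hy ihx ihy =>
    have hx' : x ∈ N P := by rw [h.eq_J]; exact hx
    have hy' : y ∈ N P := by rw [h.eq_J]; exact hy
    have h2 : Commute x y := comm_of_le_centralizer h.abel hx' hy'
    rw [h2.mul_pow, ihx, ihy, mul_one]
  | inv x hx ih => rw [inv_pow, ih, inv_one]

end Out

/-! ### Minimal parabolics over a Sylow 2-subgroup -/

section Par

variable [Finite G]

theorem _root_.Cfsg.Agent.MinSimple.MinParabolic.IsMinPar.gen {S P V : Subgroup G}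
    (h : MinSimple.MinParabolic.IsMinPar S P) (hS : IsPGroup 2 S) (hSyl : ¬ 2 ∣ S.relIndex P)
    (hVS : V ≤ S) (hV : ¬ V ≤ o2 P) (R : Subgroup G) (hR : R ≤ P) (hVR : V ≤ R)
    (hn : P ≤ normalizer (R : Set G)) : oddGen P ≤ R := by
  have : Fact (Nat.Prime 2) := ⟨Nat.prime_two⟩
  rcases h.sup_eq_or_inf_le (p := 2) hS hSyl hR hn with h1 | h1
  · exact oddGen_le_of_sup hn h1.ge h.le hR hS
  · exact absurd ((le_inf hVS hVR).trans h1) hV

/-- The hypothesis of LEMMA NAT for a minimal parabolic `P`. -/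
theorem Hyp.of_minPar (S : Sylow 2 G) {P V l Eh : Subgroup G}
    (h : MinSimple.MinParabolic.IsMinPar (S : Subgroup G) P)
    (hc : P ⊓ centralizer (o2 P : Set G) ≤ o2 P) (comm : V ≤ centralizer (V : Set G))
    (VS : V ≤ (S : Subgroup G)) (SV : (S : Subgroup G) ≤ normalizer (V : Set G))
    (VQ : ¬ V ≤ o2 P) (acts : ⁅o2 P, oddGen P⁆ ≤ Eh)
    (nat : ∀ R : Subgroup G, R ≤ Eh → (S : Subgroup G) ≤ normalizer (R : Set G) →
      ¬ R ≤ centralizer (V : Set G) → ⁅V, R⁆ = l ∧ V ⊓ centralizer (R : Set G) = l) :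
    Hyp (S : Subgroup G) P V l Eh where
  sup := NoFF.LinesPlug.oddGen_sup h.le (MinSimple.Basic.not_dvd_relIndex S h.le)
  two := S.isPGroup'
  Q_le := o2_le_of_sylow S.isPGroup' (MinSimple.Basic.not_dvd_relIndex S h.le)
  char2 := hc
  comm := comm
  VS := VS
  SV := SV
  VQ := VQ
  gen := h.gen S.isPGroup' (MinSimple.Basic.not_dvd_relIndex S h.le) VS VQ
  acts := acts
  nat := nat

end Par

end Cfsg.Agent.Omega.NOne.NatLem

end

section


/-!
# LEMMA NAT: products of natural `SL₂(F)`-modules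

`NatProd F ι V`: coordinates `V = (F²)^ι` such that every element of `SL₂(F)^ι` is induced by an element of `G`.
For `w : ι → F²`, all `w i ≠ 0`:

* `D.lin w` : `l = ∏ F w_i`;
* `D.Eh w` : `Ê`, the elements inducing an element of `∏ C_{SL₂(F)}(w_i)`;
* `D.tor w` : the group generated by the elements inducing an element of `∏ N_{SL₂(F)}(F w_i)`.

`D.Trans S`: `S` permutes the factors transitively.

* `NatProd.nat` : `[V, R] = C_V(R) = l` for `R ≤ Ê` normalised by `S`, nontrivial on `V`;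
* `NatProd.irr` : a subgroup of `V` containing `l`, normalised by `S` and `D.tor w`, is `l` or `V`
  (`|F| > 2` or `|ι| = 1`);
* `NatProd.card` : `|Ê : C_Ê(V)| ≤ |V : l|`;
* **`NatProd.main`** : LEMMA NAT.
-/

set_option autoImplicit false
set_option linter.unusedSectionVars false

namespace Cfsg.Agent.Omega.NOne.NatProd

open Subgroup Cfsg.Agent.Lib.SL2Mat Cfsg.Agent.Omega.NatPair
open Cfsg.Agent.ZN (o2)
open Cfsg.Agent.MinSimple.VModule
open Cfsg.Agent.Omega.NOne.Frame (norm_mem norm_mem' comm_of_le_centralizer le_centralizer_of_comm)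
open scoped commutatorElement

variable {G : Type*} [Group G] {F : Type*} [Field F]

/-! ### `SL₂(F)` -/

theorem dt_ap' (B : Matrix.SpecialLinearGroup (Fin 2) F) (w x : Fin 2 → F) :
    dt (ap B w) (ap B x) = dt w x := by
  unfold dt
  rw [ap_zero', ap_zero', ap_one', ap_one']
  linear_combination (w 0 * x 1 - w 1 * x 0) * det_eq B

theorem exists_dt {w : Fin 2 → F} (hw : w ≠ 0) : ∃ x, dt w x = 1 := by
  by_cases h0 : w 0 = 0
  · have h1 : w 1 ≠ 0 := fun h1 => hw (ext2 h0 h1)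
    refine ⟨![-(w 1)⁻¹, 0], ?_⟩
    unfold dt
    simp [h1]
  · refine ⟨![0, (w 0)⁻¹], ?_⟩
    unfold dt
    simp [h0]

/-- elements of `SL₂(F)` are given on a basis -/
theorem exists_basis' {w x w' x' : Fin 2 → F} (h : dt w x ≠ 0) (h' : dt w' x' = dt w x) :
    ∃ B : Matrix.SpecialLinearGroup (Fin 2) F, ap B w = w' ∧ ap B x = x' := by
  have h0 : w 0 * x 1 - w 1 * x 0 ≠ 0 := h
  have h0' : w' 0 * x' 1 - w' 1 * x' 0 = w 0 * x 1 - w 1 * x 0 := h'
  refine ⟨mk ((w' 0 * x 1 - x' 0 * w 1) / (w 0 * x 1 - w 1 * x 0))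
    ((x' 0 * w 0 - w' 0 * x 0) / (w 0 * x 1 - w 1 * x 0))
    ((w' 1 * x 1 - x' 1 * w 1) / (w 0 * x 1 - w 1 * x 0))
    ((x' 1 * w 0 - w' 1 * x 0) / (w 0 * x 1 - w 1 * x 0)) ?_, ?_, ?_⟩
  · rw [div_mul_div_comm, div_mul_div_comm, ← sub_div, div_eq_one_iff_eq (mul_ne_zero h0 h0)]
    linear_combination (w 0 * x 1 - w 1 * x 0) * h0'
  · apply ext2
    · rw [ap_zero', mk_00, mk_01, div_mul_eq_mul_div, div_mul_eq_mul_div, ← add_div, div_eq_iff h0]
      ring
    · rw [ap_one', mk_10, mk_11, div_mul_eq_mul_div, div_mul_eq_mul_div, ← add_div, div_eq_iff h0]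
      ring
  · apply ext2
    · rw [ap_zero', mk_00, mk_01, div_mul_eq_mul_div, div_mul_eq_mul_div, ← add_div, div_eq_iff h0]
      ring
    · rw [ap_one', mk_10, mk_11, div_mul_eq_mul_div, div_mul_eq_mul_div, ← add_div, div_eq_iff h0]
      ring

/-- an element of `SL₂(F)` fixing `w ≠ 0` is a transvection -/
theorem exists_transv {w : Fin 2 → F} (hw : w ≠ 0) {B : Matrix.SpecialLinearGroup (Fin 2) F}
    (hB : ap B w = w) : ∃ t : F, ∀ x, ap B x = x + (t * dt w x) • w := by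
  obtain ⟨u, hu⟩ := exists_dt hw
  have h1 : dt w (ap B u - u) = 0 := by
    have h2 := dt_ap' B w u
    rw [hB] at h2
    unfold dt at h2 ⊢
    rw [Pi.sub_apply, Pi.sub_apply]
    linear_combination h2
  obtain ⟨t, ht⟩ := exists_smul_of_dt hw h1
  have ht' : ap B u = u + t • w := by rw [← ht]; abel
  refine ⟨t, fun x => ?_⟩
  obtain ⟨a, b, rfl⟩ := exists_comb (by rw [hu]; exact one_ne_zero : dt w u ≠ 0) x
  have h3 : dt w (a • w + b • u) = b := by
    rw [dt_add, dt_smul, dt_smul, hu]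
    unfold dt; ring
  rw [h3, ap_add, ap_smul, ap_smul, hB, ht', smul_add, smul_smul, mul_comm t b]
  abel

/-! ### Products of natural modules -/

/-- `V = (F²)^ι`, and all elements of `SL₂(F)^ι` are induced by elements of `G`. -/
structure _root_.Cfsg.Agent.Omega.NOne.NatProd (F : Type*) [Field F] (ι : Type*) (V : Subgroup G) where
  e : (ι → Fin 2 → F) → G
  e_add : ∀ x y, e (x + y) = e x * e y
  e_inj : Function.Injective e
  mem_iff : ∀ g, g ∈ V ↔ ∃ x, e x = g
  lift : ∀ A : ι → Matrix.SpecialLinearGroup (Fin 2) F, ∃ g, ∀ x, g * e x * g⁻¹ = e fun i => ap (A i) (x i)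

section Main

variable {ι : Type*} {V : Subgroup G} (D : NatProd F ι V)
include D

/-- `g` acts as `A` -/
def Ind (g : G) (A : ι → Matrix.SpecialLinearGroup (Fin 2) F) : Prop :=
  ∀ x, g * D.e x * g⁻¹ = D.e fun i => ap (A i) (x i)

theorem e_zero : D.e 0 = 1 := by
  have := D.e_add 0 0
  rw [add_zero] at this
  exact left_eq_mul.1 this

theorem e_neg (x : ι → Fin 2 → F) : D.e (-x) = (D.e x)⁻¹ := by
  rw [eq_inv_iff_mul_eq_one, ← D.e_add, neg_add_cancel, D.e_zero]

theorem e_sub (x y : ι → Fin 2 → F) : D.e (x - y) = D.e x * (D.e y)⁻¹ := by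
  rw [sub_eq_add_neg, D.e_add, D.e_neg]

theorem e_mem (x : ι → Fin 2 → F) : D.e x ∈ V := (D.mem_iff _).2 ⟨x, rfl⟩

theorem comm_V : V ≤ centralizer (V : Set G) := by
  refine le_centralizer_of_comm fun a ha b hb => ?_
  obtain ⟨x, rfl⟩ := (D.mem_iff a).1 ha
  obtain ⟨y, rfl⟩ := (D.mem_iff b).1 hb
  rw [← D.e_add, ← D.e_add, add_comm]

variable {D}

theorem Ind.one : D.Ind 1 (fun _ => 1) := fun x => by
  simp only [ap_one]; group

theorem Ind.mul {g h : G} {A B : ι → Matrix.SpecialLinearGroup (Fin 2) F} (hg : D.Ind g A)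
    (hh : D.Ind h B) : D.Ind (g * h) (fun i => A i * B i) := fun x => by
  have e1 : g * h * D.e x * (g * h)⁻¹ = g * (h * D.e x * h⁻¹) * g⁻¹ := by group
  rw [e1, hh, hg]
  simp only [ap_mul]

theorem Ind.inv {g : G} {A : ι → Matrix.SpecialLinearGroup (Fin 2) F} (hg : D.Ind g A) :
    D.Ind g⁻¹ (fun i => (A i)⁻¹) := fun x => by
  have h1 := hg fun i => ap (A i)⁻¹ (x i)
  simp only [ap_ap_inv] at h1
  rw [← h1]; group

theorem Ind.mem_normalizer {g : G} {A : ι → Matrix.SpecialLinearGroup (Fin 2) F} (hg : D.Ind g A) :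
    g ∈ normalizer (V : Set G) := by
  rw [Subgroup.mem_normalizer_iff]
  intro n
  constructor
  · intro hn
    obtain ⟨x, rfl⟩ := (D.mem_iff n).1 hn
    rw [hg]; exact D.e_mem _
  · intro hn
    obtain ⟨x, hx⟩ := (D.mem_iff _).1 hn
    have h1 := hg.inv x
    rw [hx] at h1
    have h2 : g⁻¹ * (g * n * g⁻¹) * g⁻¹⁻¹ = n := by group
    rw [h2] at h1
    rw [h1]; exact D.e_mem _

variable (D)

/-- `l = ∏ F w_i` -/
def lin (w : ι → Fin 2 → F) : Subgroup G where
  carrier := {g | ∃ c : ι → F, D.e (fun i => c i • w i) = g}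
  mul_mem' := by
    rintro _ _ ⟨c, rfl⟩ ⟨d, rfl⟩
    refine ⟨fun i => c i + d i, ?_⟩
    rw [← D.e_add]
    congr 1
    funext i
    rw [add_smul]; rfl
  one_mem' := ⟨fun _ => 0, by
    rw [← D.e_zero]
    congr 1
    funext i
    rw [zero_smul]; rfl⟩
  inv_mem' := by
    rintro _ ⟨c, rfl⟩
    refine ⟨fun i => - c i, ?_⟩
    rw [← D.e_neg]
    congr 1
    funext i
    rw [neg_smul]; rfl

theorem mem_lin {w : ι → Fin 2 → F} {x : ι → Fin 2 → F} :
    D.e x ∈ D.lin w ↔ ∀ i, ∃ c : F, x i = c • w i := by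
  constructor
  · rintro ⟨c, hc⟩ i
    exact ⟨c i, (congrFun (D.e_inj hc) i).symm⟩
  · intro h
    choose c hc using h
    exact ⟨c, congrArg D.e (funext fun i => (hc i).symm)⟩

theorem lin_le (w : ι → Fin 2 → F) : D.lin w ≤ V := by
  rintro _ ⟨c, rfl⟩
  exact D.e_mem _

/-- `Ê` -/
def Eh (w : ι → Fin 2 → F) : Subgroup G where
  carrier := {g | ∃ A, (∀ i, ap (A i) (w i) = w i) ∧ D.Ind g A}
  mul_mem' := by
    rintro g h ⟨A, hA, hg⟩ ⟨B, hB, hh⟩
    exact ⟨_, fun i => by rw [ap_mul, hB, hA], hg.mul hh⟩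
  one_mem' := ⟨_, fun i => ap_one _, Ind.one⟩
  inv_mem' := by
    rintro g ⟨A, hA, hg⟩
    refine ⟨_, fun i => ?_, hg.inv⟩
    have := ap_inv_ap (A i) (w i)
    rwa [hA] at this

/-- the group generated by the elements inducing an element of `∏ N_{SL₂(F)}(F w_i)` -/
def tor (w : ι → Fin 2 → F) : Subgroup G :=
  closure {g | ∃ A, (∀ i, ∃ c : F, c ≠ 0 ∧ ap (A i) (w i) = c • w i) ∧ D.Ind g A}

theorem tor_le (w : ι → Fin 2 → F) : D.tor w ≤ normalizer (V : Set G) := by
  refine (closure_le _).2 ?_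
  rintro g ⟨A, -, hg⟩
  exact hg.mem_normalizer

theorem tor_le_lin (w : ι → Fin 2 → F) : D.tor w ≤ normalizer (D.lin w : Set G) := by
  refine (closure_le _).2 ?_
  have key : ∀ g : G, (∃ A, (∀ i, ∃ c : F, c ≠ 0 ∧ ap (A i) (w i) = c • w i) ∧ D.Ind g A) →
      ∀ x ∈ D.lin w, g * x * g⁻¹ ∈ D.lin w := by
    rintro g ⟨A, hA, hg⟩ _ ⟨c, rfl⟩
    rw [hg, mem_lin]
    intro i
    obtain ⟨d, -, hd⟩ := hA i
    exact ⟨c i * d, by rw [ap_smul, hd, smul_smul]⟩
  rintro g ⟨A, hA, hg⟩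
  refine (Subgroup.mem_normalizer_iff).2 fun x => ⟨key g ⟨A, hA, hg⟩ x, fun hx => ?_⟩
  have h1 := key g⁻¹ ⟨_, fun i => ?_, hg.inv⟩ _ hx
  · have e : g⁻¹ * (g * x * g⁻¹) * g⁻¹⁻¹ = x := by group
    rwa [e] at h1
  · obtain ⟨d, hd0, hd⟩ := hA i
    refine ⟨d⁻¹, inv_ne_zero hd0, ?_⟩
    have h2 := ap_inv_ap (A i) (w i)
    rw [hd, ap_smul] at h2
    exact (eq_inv_smul_iff₀ hd0).2 h2

/-- `S` permutes the factors transitively. -/
def Trans [DecidableEq ι] (S : Subgroup G) : Prop :=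
  ∀ i j, ∃ s ∈ S, ∀ y, ∃ z, s * D.e (Pi.single i y) * s⁻¹ = D.e (Pi.single j z)

variable [DecidableEq ι]

variable {D} in
theorem Ind.single {g : G} {A : ι → Matrix.SpecialLinearGroup (Fin 2) F} (hg : D.Ind g A) (i : ι)
    (y : Fin 2 → F) : g * D.e (Pi.single i y) * g⁻¹ = D.e (Pi.single i (ap (A i) y)) := by
  rw [hg]
  congr 1
  funext j
  by_cases h : j = i
  · subst h
    rw [Pi.single_eq_same, Pi.single_eq_same]
  · rw [Pi.single_eq_of_ne h, Pi.single_eq_of_ne h]
    apply ext2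
    · rw [ap_zero']; simp
    · rw [ap_one']; simp

theorem e_single_sub (i : ι) (x y : Fin 2 → F) :
    D.e (Pi.single i (x - y)) = D.e (Pi.single i x) * (D.e (Pi.single i y))⁻¹ := by
  rw [← D.e_sub, Pi.single_sub]

/-- A subgroup containing all the factors contains `V`. -/
theorem e_mem_of_single [Fintype ι] {U : Subgroup G} {x : ι → Fin 2 → F}
    (h : ∀ i, D.e (Pi.single i (x i)) ∈ U) : D.e x ∈ U := by
  have h1 : x = ∑ i, Pi.single i (x i) := (Finset.univ_sum_single x).symm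
  rw [h1]
  refine Finset.sum_induction (fun i => Pi.single i (x i)) (fun y => D.e y ∈ U) ?_ ?_ fun i _ => h i
  · intro a b ha hb
    rw [D.e_add]
    exact mul_mem ha hb
  · rw [D.e_zero]
    exact one_mem U

variable {D}

/-- **(nat)** -/
theorem nat [Fintype ι] {w : ι → Fin 2 → F} (hw : ∀ i, w i ≠ 0) {S R : Subgroup G} (hT : D.Trans S)
    (hR : R ≤ D.Eh w) (hSR : S ≤ normalizer (R : Set G)) (hne : ¬ R ≤ centralizer (V : Set G)) :
    ⁅V, R⁆ = D.lin w ∧ V ⊓ centralizer (R : Set G) = D.lin w := by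
  -- an element of `R` nontrivial on some factor
  obtain ⟨r, hr, i, y, hy⟩ : ∃ r ∈ R, ∃ i, ∃ y, r * D.e (Pi.single i y) * r⁻¹ ≠ D.e (Pi.single i y) := by
    by_contra hc
    push Not at hc
    refine hne fun r hr => mem_centralizer_iff.2 fun v hv => ?_
    obtain ⟨A, hA, hrA⟩ := hR hr
    obtain ⟨x, rfl⟩ := (D.mem_iff v).1 hv
    have h1 : ∀ i, ap (A i) (x i) = x i := fun i => by
      have h2 := hc r hr i (x i)
      rw [hrA.single] at h2
      have h3 := congrFun (D.e_inj h2) i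
      rwa [Pi.single_eq_same, Pi.single_eq_same] at h3
    have h4 := hrA x
    simp only [h1] at h4
    calc D.e x * r = r * D.e x * r⁻¹ * r := by rw [h4]
      _ = r * D.e x := by group
  -- hence on every factor
  have key : ∀ j, ∃ r ∈ R, ∃ A, (∀ i, ap (A i) (w i) = w i) ∧ D.Ind r A ∧
      ∃ t : F, t ≠ 0 ∧ ∀ x, ap (A j) x = x + (t * dt (w j) x) • w j := by
    intro j
    obtain ⟨s, hs, hsy⟩ := hT i j
    obtain ⟨z, hz⟩ := hsy y
    have hr' : s * r * s⁻¹ ∈ R := norm_mem (hSR hs) hr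
    obtain ⟨A, hA, hrA⟩ := hR hr'
    obtain ⟨t, ht⟩ := exists_transv (hw j) (hA j)
    refine ⟨_, hr', A, hA, hrA, t, ?_, ht⟩
    rintro rfl
    have h1 : ap (A j) z = z := by rw [ht]; simp
    have h2 := hrA.single j z
    rw [h1, ← hz] at h2
    apply hy
    have h3 : s * (r * D.e (Pi.single i y) * r⁻¹) * s⁻¹ = s * D.e (Pi.single i y) * s⁻¹ := by
      rw [← h2]; group
    exact mul_left_cancel (mul_right_cancel h3)
  constructor
  · refine le_antisymm ?_ ?_
    · rw [commutator_le]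
      intro v hv r hr
      obtain ⟨x, rfl⟩ := (D.mem_iff v).1 hv
      obtain ⟨A, hA, hrA⟩ := hR hr
      have e1 : ⁅D.e x, r⁆ = D.e (x - fun i => ap (A i) (x i)) := by
        rw [D.e_sub, ← hrA x, commutatorElement_def]; group
      rw [e1, mem_lin]
      intro i
      obtain ⟨t, ht⟩ := exists_transv (hw i) (hA i)
      refine ⟨-(t * dt (w i) (x i)), ?_⟩
      rw [Pi.sub_apply, ht, neg_smul]
      abel
    · rintro _ ⟨c, rfl⟩
      refine D.e_mem_of_single fun j => ?_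
      obtain ⟨r, hr, A, hA, hrA, t, ht0, ht⟩ := key j
      obtain ⟨u, hu⟩ := exists_dt (hw j)
      have h1 := commutator_mem_commutator (D.e_mem (Pi.single j ((-(c j * t⁻¹)) • u))) hr
      have e1 : ⁅D.e (Pi.single j ((-(c j * t⁻¹)) • u)), r⁆ = D.e (Pi.single j (c j • w j)) := by
        have h2 : c j • w j = (-(c j * t⁻¹)) • u - ap (A j) ((-(c j * t⁻¹)) • u) := by
          rw [ht, dt_smul, hu, mul_one]
          rw [sub_add_eq_sub_sub, sub_self, zero_sub, ← neg_smul]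
          congr 1
          field_simp
        rw [h2, e_single_sub, ← hrA.single j, commutatorElement_def]; group
      rwa [e1] at h1
  · refine le_antisymm ?_ ?_
    · rintro v ⟨hv, hvR⟩
      obtain ⟨x, rfl⟩ := (D.mem_iff v).1 hv
      rw [mem_lin]
      intro j
      obtain ⟨r, hr, A, hA, hrA, t, ht0, ht⟩ := key j
      have h1 := mem_centralizer_iff.1 hvR r hr
      have h2 := hrA x
      rw [h1, mul_inv_cancel_right] at h2
      have h3 : x j = ap (A j) (x j) := congrFun (D.e_inj h2) j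
      rw [ht, left_eq_add, smul_eq_zero, mul_eq_zero] at h3
      exact exists_smul_of_dt (hw j) ((h3.resolve_right (hw j)).resolve_left ht0)
    · refine le_inf (D.lin_le w) ?_
      rintro _ ⟨c, rfl⟩
      refine mem_centralizer_iff.2 fun r hr => ?_
      obtain ⟨A, hA, hrA⟩ := hR hr
      have h1 := hrA fun i => c i • w i
      simp only [ap_smul, hA] at h1
      calc r * D.e (fun i => c i • w i) = r * D.e (fun i => c i • w i) * r⁻¹ * r := by group
        _ = D.e (fun i => c i • w i) * r := by rw [h1]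

/-- **(irr)** -/
theorem irr [Fintype ι] {w : ι → Fin 2 → F} (hw : ∀ i, w i ≠ 0) {S U : Subgroup G} (hT : D.Trans S)
    (hF : (∃ c : F, c ≠ 0 ∧ c ≠ 1) ∨ Subsingleton ι) (hlU : D.lin w ≤ U) (hUV : U ≤ V)
    (hSU : S ≤ normalizer (U : Set G)) (hTU : D.tor w ≤ normalizer (U : Set G)) :
    U = D.lin w ∨ U = V := by
  by_contra hcon
  push Not at hcon
  obtain ⟨hc1, hc2⟩ := hcon
  -- an element outside `l`
  obtain ⟨x, hxU, i, hxi⟩ : ∃ x, D.e x ∈ U ∧ ∃ i, dt (w i) (x i) ≠ 0 := by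
    by_contra hc
    push Not at hc
    refine hc1 (le_antisymm (fun u hu => ?_) hlU)
    obtain ⟨x, rfl⟩ := (D.mem_iff u).1 (hUV hu)
    rw [mem_lin]
    exact fun i => exists_smul_of_dt (hw i) (hc x hu i)
  -- an element of a factor outside `l`
  obtain ⟨u, huU, hu⟩ : ∃ u, D.e (Pi.single i u) ∈ U ∧ dt (w i) u ≠ 0 := by
    rcases hF with ⟨c, hc0, hc1⟩ | hss
    · obtain ⟨B, hB, hB'⟩ := exists_basis' (w := w i) (x := x i) (w' := c⁻¹ • w i) (x' := c • x i) hxi
        (by unfold dt; simp only [Pi.smul_apply, smul_eq_mul]; field_simp)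
      obtain ⟨g, hg⟩ := D.lift (Pi.mulSingle i B)
      have hg' : D.Ind g (Pi.mulSingle i B) := hg
      have hgT : g ∈ D.tor w := by
        refine subset_closure ⟨_, fun j => ?_, hg'⟩
        by_cases hj : j = i
        · subst hj
          exact ⟨c⁻¹, inv_ne_zero hc0, by rw [Pi.mulSingle_eq_same, hB]⟩
        · exact ⟨1, one_ne_zero, by rw [Pi.mulSingle_eq_of_ne hj, ap_one, one_smul]⟩
      have h1 := mul_mem (norm_mem (hTU hgT) hxU) (inv_mem hxU)
      rw [hg', ← D.e_sub] at h1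
      refine ⟨(c - 1) • x i, ?_, ?_⟩
      · convert h1 using 2
        funext j
        by_cases hj : j = i
        · subst hj
          rw [Pi.single_eq_same, Pi.sub_apply, Pi.mulSingle_eq_same, hB', sub_smul, one_smul]
        · rw [Pi.single_eq_of_ne hj, Pi.sub_apply, Pi.mulSingle_eq_of_ne hj, ap_one, sub_self]
      · rw [dt_smul]
        exact mul_ne_zero (sub_ne_zero.2 hc1) hxi
    · refine ⟨x i, ?_, hxi⟩
      convert hxU using 2
      funext j
      obtain rfl : j = i := Subsingleton.elim _ _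
      rw [Pi.single_eq_same]
  -- the factor `i`
  have hi : ∀ y, D.e (Pi.single i y) ∈ U := by
    intro y
    by_cases hy : dt (w i) y = 0
    · refine hlU ((D.mem_lin).2 fun j => ?_)
      by_cases hj : j = i
      · subst hj
        rw [Pi.single_eq_same]
        exact exists_smul_of_dt (hw j) hy
      · exact ⟨0, by rw [Pi.single_eq_of_ne hj, zero_smul]⟩
    · obtain ⟨B, hB, hB'⟩ := exists_basis' (w := w i) (x := u)
        (w' := (dt (w i) u / dt (w i) y) • w i) (x' := y) hu (by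
          have h1 : dt ((dt (w i) u / dt (w i) y) • w i) y = (dt (w i) u / dt (w i) y) * dt (w i) y := by
            simp only [dt, Pi.smul_apply, smul_eq_mul]; ring
          rw [h1, div_mul_cancel₀ _ hy])
      obtain ⟨g, hg⟩ := D.lift (Pi.mulSingle i B)
      have hg' : D.Ind g (Pi.mulSingle i B) := hg
      have hgT : g ∈ D.tor w := by
        refine subset_closure ⟨_, fun j => ?_, hg'⟩
        by_cases hj : j = i
        · subst hj
          exact ⟨_, div_ne_zero hu hy, by rw [Pi.mulSingle_eq_same, hB]⟩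
        · exact ⟨1, one_ne_zero, by rw [Pi.mulSingle_eq_of_ne hj, ap_one, one_smul]⟩
      have h1 := norm_mem (hTU hgT) huU
      rwa [hg'.single, Pi.mulSingle_eq_same, hB'] at h1
  refine hc2 (le_antisymm hUV fun v hv => ?_)
  obtain ⟨x, rfl⟩ := (D.mem_iff v).1 hv
  refine D.e_mem_of_single fun j => ?_
  obtain ⟨s, hs, hsy⟩ := hT j i
  obtain ⟨z, hz⟩ := hsy (x j)
  have h1 := norm_mem' (hSU hs) (hi z)
  rw [← hz] at h1
  have e : s⁻¹ * (s * D.e (Pi.single j (x j)) * s⁻¹) * s = D.e (Pi.single j (x j)) := by group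
  rwa [e] at h1

variable (D)

theorem card_lin [Fintype ι] {w : ι → Fin 2 → F} (hw : ∀ i, w i ≠ 0) :
    Nat.card (D.lin w) = Nat.card (ι → F) := by
  refine (Nat.card_congr (Equiv.ofBijective
    (fun c : ι → F => (⟨D.e (fun i => c i • w i), c, rfl⟩ : D.lin w)) ⟨?_, ?_⟩)).symm
  · intro c d h
    funext i
    exact smul_left_injective F (hw i) (congrFun (D.e_inj (congrArg Subtype.val h)) i)
  · rintro ⟨_, c, rfl⟩
    exact ⟨c, rfl⟩

theorem card_V [Fintype ι] : Nat.card V = Nat.card (ι → F) ^ 2 := by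
  have h1 : Nat.card (ι → Fin 2 → F) = Nat.card V := by
    refine Nat.card_congr (Equiv.ofBijective (fun x => ⟨D.e x, D.e_mem x⟩) ⟨?_, ?_⟩)
    · intro x y h
      exact D.e_inj (congrArg Subtype.val h)
    · rintro ⟨v, hv⟩
      obtain ⟨x, rfl⟩ := (D.mem_iff v).1 hv
      exact ⟨x, rfl⟩
  rw [← h1, Nat.card_fun, Nat.card_fun, Nat.card_fun, ← pow_mul, ← pow_mul, mul_comm]
  simp

/-- `|V : l| = |l|` -/
theorem relIndex_lin [Finite G] [Fintype ι] {w : ι → Fin 2 → F} (hw : ∀ i, w i ≠ 0) :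
    (D.lin w).relIndex V = Nat.card (D.lin w) := by
  have h1 := relIndex_mul_relIndex ⊥ (D.lin w) V bot_le (D.lin_le w)
  rw [relIndex_bot_left, relIndex_bot_left, D.card_V, ← D.card_lin hw, sq] at h1
  exact Nat.eq_of_mul_eq_mul_left Nat.card_pos h1

/-- **(card)** -/
theorem card [Finite G] [Fintype ι] {w : ι → Fin 2 → F} (hw : ∀ i, w i ≠ 0) :
    (D.Eh w ⊓ centralizer (V : Set G)).relIndex (D.Eh w) ≤ (D.lin w).relIndex V := by
  rw [D.relIndex_lin hw, inf_relIndex_left, relIndex, index_eq_card]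
  choose u hu using fun i => exists_dt (hw i)
  have hmem : ∀ g ∈ D.Eh w, g * D.e u * g⁻¹ * (D.e u)⁻¹ ∈ D.lin w := by
    rintro g ⟨A, hA, hg⟩
    rw [hg, ← D.e_sub, mem_lin]
    intro i
    obtain ⟨t, ht⟩ := exists_transv (hw i) (hA i)
    exact ⟨t * dt (w i) (u i), by rw [Pi.sub_apply, ht, add_sub_cancel_left]⟩
  have hinj : ∀ g ∈ D.Eh w, ∀ h ∈ D.Eh w, g * D.e u * g⁻¹ = h * D.e u * h⁻¹ →
      g⁻¹ * h ∈ centralizer (V : Set G) := by
    rintro g ⟨A, hA, hg⟩ h ⟨B, hB, hh⟩ he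
    have h1 : ∀ i x, ap (A i) x = ap (B i) x := by
      intro i x
      rw [hg, hh] at he
      have h2 : ap (A i) (u i) = ap (B i) (u i) := congrFun (D.e_inj he) i
      obtain ⟨t, ht⟩ := exists_transv (hw i) (hA i)
      obtain ⟨s, hs⟩ := exists_transv (hw i) (hB i)
      rw [ht, hs, hu, mul_one, mul_one, add_right_inj] at h2
      rw [ht, hs, smul_left_injective F (hw i) h2]
    refine mem_centralizer_iff.2 fun v hv => ?_
    obtain ⟨x, rfl⟩ := (D.mem_iff v).1 hv
    have h3 := hg x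
    have h4 := hh x
    simp only [h1] at h3
    rw [← h4] at h3
    calc D.e x * (g⁻¹ * h) = g⁻¹ * (g * D.e x * g⁻¹) * h := by group
      _ = g⁻¹ * (h * D.e x * h⁻¹) * h := by rw [h3]
      _ = g⁻¹ * h * D.e x := by group
  refine Nat.card_le_card_of_injective
    (fun q : D.Eh w ⧸ (centralizer (V : Set G)).subgroupOf (D.Eh w) =>
      (⟨_, hmem (Quotient.out q : D.Eh w) (Quotient.out q).2⟩ : D.lin w)) ?_
  intro q q' hq
  have h1 := mul_right_cancel (congrArg Subtype.val hq)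
  have h2 := hinj _ (Quotient.out q).2 _ (Quotient.out q').2 h1
  rw [← QuotientGroup.out_eq' q, ← QuotientGroup.out_eq' q', QuotientGroup.eq, mem_subgroupOf]
  exact h2

variable {D}

/-- The hypothesis of LEMMA NAT for a minimal parabolic `P`. -/
theorem hyp [Finite G] [Fintype ι] (S : Sylow 2 G) {P : Subgroup G}
    (hP : MinSimple.MinParabolic.IsMinPar (S : Subgroup G) P)
    (hc : P ⊓ centralizer (o2 P : Set G) ≤ o2 P) (hVS : V ≤ (S : Subgroup G))
    (hSV : (S : Subgroup G) ≤ normalizer (V : Set G)) (hVQ : ¬ V ≤ o2 P)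
    {w : ι → Fin 2 → F} (hw : ∀ i, w i ≠ 0) (hT : D.Trans (S : Subgroup G))
    (hE : ⁅o2 P, oddGen P⁆ ≤ D.Eh w) :
    NatLem.Hyp (S : Subgroup G) P V (D.lin w) (D.Eh w) :=
  NatLem.Hyp.of_minPar S hP hc D.comm_V hVS hSV hVQ hE fun _ hR hSR hne => nat hw hT hR hSR hne

/-- **LEMMA NAT.** `G` of characteristic 2 type, `S ≤ P` a minimal parabolic, `V` a product of natural
`SL₂(F)`-modules permuted transitively by `S`, `V ≰ O₂(P)`, and `N = [O₂(P), O²(P)]` acts on `V` inside `Ê`.  Then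
`N` is abelian, `C_V(N) = V ∩ O₂(P)` and `|N : C_N(V)| ≤ |V : V ∩ O₂(P)|`. -/
theorem main [Finite G] [Fintype ι] (hG : Cfsg.IsCharacteristicTwoType G) (S : Sylow 2 G) {P : Subgroup G}
    (hP : MinSimple.MinParabolic.IsMinPar (S : Subgroup G) P)
    (hc : P ⊓ centralizer (o2 P : Set G) ≤ o2 P) (hVS : V ≤ (S : Subgroup G))
    (hSV : (S : Subgroup G) ≤ normalizer (V : Set G)) (hVQ : ¬ V ≤ o2 P)
    {w : ι → Fin 2 → F} (hw : ∀ i, w i ≠ 0) (hT : D.Trans (S : Subgroup G))
    (hF : (∃ c : F, c ≠ 0 ∧ c ≠ 1) ∨ Subsingleton ι)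
    (hE : ⁅o2 P, oddGen P⁆ ≤ D.Eh w) :
    NatLem.Out P V (D.lin w) ∧
      (NatLem.N P ⊓ centralizer (V : Set G)).relIndex (NatLem.N P) ≤ (V ⊓ o2 P).relIndex V := by
  have h := hyp S hP hc hVS hSV hVQ hw hT hE
  have hl : IsPGroup 2 (D.lin w) := S.isPGroup'.to_le ((D.lin_le w).trans hVS)
  have h1 := h.not_cent' (T := D.tor w) (MinSimple.Basic.char2_normalizer hG hl h.l_ne_bot)
    (MinPar.le_of_le_normalizer S (o2_isPGroup _) (h.S_norm_l.trans (le_normalizer_o2 _)))
    (D.tor_le w) (D.tor_le_lin w) fun U h1 h2 h3 h4 => irr hw hT hF h1 h2 h3 h4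
  have h2 := h.out h1
  refine ⟨h2, ?_⟩
  rw [h2.VQ]
  exact h.card_le (D.card hw)

end Main

/-! ### One factor -/

section One

variable {V : Subgroup G}

/-- one factor -/
def ofNatMod (M : NatMod F V) : NatProd F Unit V where
  e x := M.e (x ())
  e_add x y := M.e_add _ _
  e_inj x y h := by
    funext i
    exact M.e_inj h
  mem_iff g := by
    rw [M.mem_iff]
    exact ⟨fun ⟨x, hx⟩ => ⟨fun _ => x, hx⟩, fun ⟨x, hx⟩ => ⟨x (), hx⟩⟩
  lift A := by
    obtain ⟨g, hg⟩ := M.lift (A ())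
    exact ⟨g, fun x => hg _⟩

theorem trans_ofNatMod (M : NatMod F V) (S : Subgroup G) : (ofNatMod M).Trans S := by
  rintro ⟨⟩ ⟨⟩
  exact ⟨1, one_mem _, fun y => ⟨y, by group⟩⟩

end One

end Cfsg.Agent.Omega.NOne.NatProd

end

section


/-!
# `M_x` natural for `SL₂(q')`: reduction to `q' = 4` (helper881's text #12858, (1.1), (1.3))

`h : One T V z` (helper391's structure), `D : NatSec F (C_G(z)) (ws V z) ⟨z⟩`: `W_z/⟨z⟩` is the natural module of a normal
subgroup `SL₂(F)` of `C_G(z)/K_z`, `F` finite of characteristic 2.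

* `act_ap` : `W_y` induces transvections with centre `D.π y`, `y ∈ V`;
* `mem_ws_iff` : `W_z ∩ W_y` is the preimage of `F · D.π y`;
* `card_four` : if `4 ≤ |F|` then `|F| = 4`.
-/

set_option autoImplicit false
set_option linter.unusedSectionVars false

namespace Cfsg.Agent.Omega.RuShape.NatA

open Subgroup Cfsg Cfsg.Agent.ZN Cfsg.Agent.MinSimple.Geo Cfsg.Agent.Omega.CaseL
open Cfsg.Agent.Omega.NO3S.TwoOne Cfsg.Agent.Omega.NatPair
open Cfsg.Agent.Omega.NOne.NatProd (dt_ap' exists_dt exists_basis' exists_transv)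

universe u

variable {G : Type u} [Group G] {F : Type*} [Field F]

/-- transvections -/
theorem exists_tv {e : Fin 2 → F} (he : e ≠ 0) (t : F) :
    ∃ B : Matrix.SpecialLinearGroup (Fin 2) F, ap B e = e ∧ ∀ x, ap B x = x + (t * dt e x) • e := by
  obtain ⟨u, hu⟩ := exists_dt he
  have hee : dt e e = 0 := by unfold dt; ring
  obtain ⟨B, hB, hBu⟩ := exists_basis' (w := e) (x := u) (w' := e) (x' := u + t • e)
    (by rw [hu]; exact one_ne_zero) (by rw [dt_add, dt_smul, hee, mul_zero, add_zero])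
  refine ⟨B, hB, ?_⟩
  obtain ⟨t', ht'⟩ := exists_transv he hB
  have h1 := ht' u
  rw [hBu, hu, mul_one] at h1
  have h2 : t • e = t' • e := add_left_cancel h1
  have h3 : t = t' := smul_left_injective F he h2
  rw [h3]; exact ht'

theorem transv_ne {e : Fin 2 → F} (he : e ≠ 0) {B : Matrix.SpecialLinearGroup (Fin 2) F} (hB : ap B e = e)
    (hB1 : B ≠ 1) : ∃ t : F, t ≠ 0 ∧ ∀ x, ap B x = x + (t * dt e x) • e := by
  obtain ⟨t, ht⟩ := exists_transv he hB
  refine ⟨t, fun e0 => hB1 (ap_inj fun x => ?_), ht⟩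
  rw [ht, e0, zero_mul, zero_smul, add_zero, ap_one]

theorem transv_surj {e : Fin 2 → F} (he : e ≠ 0) {B : Matrix.SpecialLinearGroup (Fin 2) F} (hB : ap B e = e)
    (hB1 : B ≠ 1) (c : F) : ∃ x, ap B x = x + c • e := by
  obtain ⟨t, ht, hx⟩ := transv_ne he hB hB1
  obtain ⟨u, hu⟩ := exists_dt he
  refine ⟨(c * t⁻¹) • u, ?_⟩
  rw [hx, dt_smul, hu, mul_one]
  congr 2
  field_simp

theorem transv_fix {e : Fin 2 → F} (he : e ≠ 0) {B : Matrix.SpecialLinearGroup (Fin 2) F} (hB : ap B e = e)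
    (hB1 : B ≠ 1) {x : Fin 2 → F} (hx : ap B x = x) : ∃ c : F, x = c • e := by
  obtain ⟨t, ht, hx'⟩ := transv_ne he hB hB1
  have h1 := hx' x
  rw [hx] at h1
  have h2 : (t * dt e x) • e = 0 := left_eq_add.mp h1
  rcases smul_eq_zero.mp h2 with h3 | h3
  · exact exists_smul_of_dt he ((mul_eq_zero.mp h3).resolve_left ht)
  · exact absurd h3 he

variable [Finite G] {T V : Subgroup G} {z : G}

/-- the kernel -/
theorem mem_kern_iff' (D : SQ1.FFOne.NatSec F (centralizer ({z} : Set G)) (ws V z) (zpowers z)) {g : G} :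
    g ∈ D.kern ↔ g ∈ kq V z := by
  constructor
  · intro hg
    have h1 := (D.mem_kern_iff hg.1).mp hg
    have hg' := inv_mem hg
    have h2 := (D.mem_kern_iff hg'.1).mp hg'
    refine ⟨hg.1, h1, fun w hw => ?_⟩
    have h3 := h2 w hw
    rwa [inv_inv] at h3
  · intro hg
    exact (D.mem_kern_iff hg.1).mpr hg.2.1

section One

variable (h : One T V z) (D : SQ1.FFOne.NatSec F (centralizer ({z} : Set G)) (ws V z) (zpowers z))

include h

theorem zpz {g : G} : g ∈ zpowers z ↔ g = 1 ∨ g = z := mem_zpowers_iff_of_mul_self h.ln.zz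

theorem y_mem {y : G} (hy : y ∈ V) : y ∈ ws V z := h.V_le h.ln.z_mem h.ln.z_ne hy

theorem z_mem_ws : z ∈ ws V z := h.V_le h.ln.z_mem h.ln.z_ne h.ln.z_mem

theorem wy_le {y : G} (hy : y ∈ V) (hy1 : y ≠ 1) : ws V y ≤ centralizer ({z} : Set G) := fun _ ha =>
  h.cent_le_centralizer h.ln.z_mem (h.ws_le_centralizer_V hy hy1 ha)

include D

theorem pi_z : D.π z = 0 := (D.ker z (z_mem_ws h)).mpr (mem_zpowers z)

theorem pi_ne {w : G} (hw : w ∈ ws V z) (hw1 : w ≠ 1) (hwz : w ≠ z) : D.π w ≠ 0 := by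
  rw [Ne, D.ker w hw, zpz h]
  tauto

theorem pi_eq {v w : G} (hv : v ∈ ws V z) (hw : w ∈ ws V z) (e : D.π v = D.π w) : v = w ∨ v = z * w := by
  have h1 := (D.eq_iff hv hw).mp e
  rcases (zpz h).mp h1 with e1 | e1
  · left; exact mul_inv_eq_one.mp e1
  · right; exact mul_inv_eq_iff_eq_mul.mp e1

theorem act_comm {a w : G} (ha : a ∈ centralizer ({z} : Set G)) (hw : w ∈ ws V z) (haw : a * w = w * a) :
    D.act a (D.π w) = D.π w := by
  rw [D.act_π ha hw, haw, mul_inv_cancel_right]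

theorem act_kern {k : G} (hk : k ∈ kq V z) (x : Fin 2 → F) : D.act k x = x :=
  ((mem_kern_iff' D).mpr hk).2 x

/-- `C_G(z)`-conjugates of elements of `W_y` by elements fixing `D.π y` -/
theorem exists_conj {y c a : G} (hy : y ∈ V) (hy1 : y ≠ 1) (hyz : y ≠ z)
    (hc : c ∈ centralizer ({z} : Set G)) (hcy : D.act c (D.π y) = D.π y) (ha : a ∈ ws V y) :
    ∃ b ∈ ws V y, ∀ x, D.act b x = D.act (c * a * c⁻¹) x := by
  have hyW := y_mem h hy
  have haC := wy_le h hy hy1 ha
  have hcac : c * a * c⁻¹ ∈ centralizer ({z} : Set G) := mul_mem (mul_mem hc haC) (inv_mem hc)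
  have h1 : c * a * c⁻¹ ∈ ws V (c * y * c⁻¹) := conj_mem_ws c ha
  rw [D.act_π hc hyW] at hcy
  rcases pi_eq h D (D.Vn c hc y hyW) hyW hcy with e | e
  · rw [e] at h1
    exact ⟨_, h1, fun x => rfl⟩
  · obtain ⟨k, hk, hk1⟩ := h.exists_mover h.ln.z_mem h.ln.z_ne
    have e1 := h.move h.ln.z_mem h.ln.z_ne hy hy1 hyz hk hk1
    rw [e, ← e1] at h1
    have h2 := conj_mem_ws k⁻¹ h1
    have e2 : k⁻¹ * (k * y * k⁻¹) * k⁻¹⁻¹ = y := by group
    rw [e2, inv_inv] at h2
    refine ⟨_, h2, fun x => ?_⟩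
    have hkC := kq_le_centralizer V z hk
    rw [D.act_mul (mul_mem (inv_mem hkC) hcac) hkC, act_kern h D hk, D.act_mul (inv_mem hkC) hcac,
      act_kern h D (inv_mem hk)]

theorem act_ap [Finite F] [CharP F 2] {y a : G} (hy : y ∈ V) (hy1 : y ≠ 1) (hyz : y ≠ z) (ha : a ∈ ws V y) :
    ∃ B, ap B (D.π y) = D.π y ∧ D.Ind a B := by
  have hyW := y_mem h hy
  have haC := wy_le h hy hy1 ha
  set e := D.π y with he
  have he0 : e ≠ 0 := pi_ne h D hyW hy1 hyz
  have hfix : ∀ b ∈ ws V y, D.act b e = e := fun b hb =>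
    act_comm h D (wy_le h hy hy1 hb) hyW (h.V_comm hy (h.ws_le_centralizer_V hy hy1 hb)).symm
  obtain ⟨s, hs⟩ := D.exists_semi haC
  have hs1 : ∀ c, s c = c := by
    by_cases hB : ∃ b ∈ ws V y, ∃ B, ap B e = e ∧ B ≠ 1 ∧ D.Ind b B
    · obtain ⟨b, hb, B, hBe, hB1, hbB⟩ := hB
      have hbC := wy_le h hy hy1 hb
      intro c
      obtain ⟨x, hx⟩ := transv_surj he0 hBe hB1 c
      obtain ⟨w, hw, rfl⟩ := D.surj x
      have h1 : D.π (b * w * b⁻¹) = D.π w + c • e := by
        rw [← D.act_π hbC hw, (D.ind_iff hbC).mp hbB, hx]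
      have hi : b * w * b⁻¹ * w⁻¹ ∈ ws V z := mul_mem (D.Vn b hbC w hw) (inv_mem hw)
      have h2 : D.π (b * w * b⁻¹ * w⁻¹) = c • e := by
        rw [D.map_div (D.Vn b hbC w hw) hw, h1]; abel
      have hiy : b * w * b⁻¹ * w⁻¹ ∈ ws V y :=
        ii_le hy hy1 (h.comm_mem_ii hy hy1 h.ln.z_mem h.ln.z_ne (Ne.symm hyz) hb hw)
      have h3 := act_comm h D haC hi (h.comm hy hy1 a ha _ hiy)
      rw [h2, hs, hfix a ha] at h3
      exact smul_left_injective F he0 h3
    · push Not at hB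
      obtain ⟨u, hu⟩ := exists_dt he0
      have key : ∀ t : F, s t = t * dt e (D.act a u) := by
        intro t
        obtain ⟨Bt, hBte, hBt⟩ := exists_tv he0 t
        obtain ⟨c, hc, hcB⟩ := D.lift Bt
        have hcy : D.act c e = e := by rw [(D.ind_iff hc).mp hcB, hBte]
        obtain ⟨b, hb, hb'⟩ := exists_conj h D hy hy1 hyz hc hcy ha
        have hbC := wy_le h hy hy1 hb
        obtain ⟨B', hB'⟩ := D.norm a haC c⁻¹ (inv_mem hc) Bt⁻¹ (D.ind_inv hc hcB)
        have hac : a * c⁻¹ * a⁻¹ ∈ centralizer ({z} : Set G) := mul_mem (mul_mem haC (inv_mem hc)) (inv_mem haC)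
        have h1 : D.Ind (c * (a * c⁻¹ * a⁻¹)) (Bt * B') := D.ind_mul hc hac hcB hB'
        have hba : b * a⁻¹ ∈ ws V y := mul_mem hb (inv_mem ha)
        have hcac : c * a * c⁻¹ ∈ centralizer ({z} : Set G) := mul_mem (mul_mem hc haC) (inv_mem hc)
        have h2 : D.Ind (b * a⁻¹) (Bt * B') := by
          rw [D.ind_iff (wy_le h hy hy1 hba)]
          intro x
          rw [← (D.ind_iff (mul_mem hc hac)).mp h1, D.act_mul hbC (inv_mem haC), hb',
            ← D.act_mul hcac (inv_mem haC)]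
          congr 1; group
        have h3 : ap (Bt * B') e = e := by
          rw [← (D.ind_iff (wy_le h hy hy1 hba)).mp h2]; exact hfix _ hba
        have h4 : Bt * B' = 1 := by
          by_contra hne
          exact hB _ hba _ h3 hne h2
        have h5 : ∀ x, D.act c (D.act a x) = D.act a (D.act c x) := by
          intro x
          have h6 : ∀ x, D.act b x = D.act a x := by
            intro x
            have h7 := (D.ind_iff (wy_le h hy hy1 hba)).mp h2 (D.act a x)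
            rw [h4, ap_one, D.act_mul hbC (inv_mem haC), D.act_inv_act haC] at h7
            exact h7
          have h8 := hb' (D.act c x)
          rw [h6, D.act_mul (mul_mem hc haC) (inv_mem hc), D.act_inv_act hc, D.act_mul hc haC] at h8
          exact h8.symm
        have h6 := h5 u
        rw [(D.ind_iff hc).mp hcB, (D.ind_iff hc).mp hcB, hBt, hBt, D.act_add haC, hs, hfix a ha, hu,
          mul_one] at h6
        have h7 := add_left_cancel h6
        exact (smul_left_injective F he0 h7).symm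
      have h1 := key 1
      rw [map_one, one_mul] at h1
      intro c
      rw [key c, ← h1, mul_one]
  have hlin : ∀ (c : F) x, D.act a (c • x) = c • D.act a x := fun c x => by rw [hs, hs1]
  obtain ⟨u, hu⟩ := exists_dt he0
  set κ := dt e (D.act a u) with hκ
  have hdt : ∀ x, dt e (D.act a x) = κ * dt e x := by
    intro x
    obtain ⟨α, β, rfl⟩ := exists_comb (by rw [hu]; exact one_ne_zero : dt e u ≠ 0) x
    have hee : dt e e = 0 := by unfold dt; ring
    rw [D.act_add haC, hlin, hlin, hfix a ha]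
    simp only [dt_add, dt_smul, hee, hu, ← hκ]
    ring
  have haa : ∀ x, D.act a (D.act a x) = x := by
    intro x
    rw [← D.act_mul haC haC, h.sq hy hy1 a ha, D.act_one]
  have hκ1 : κ = 1 := by
    have h1 := hdt (D.act a u)
    rw [haa, hu, ← hκ] at h1
    have h2 : (κ - 1) * (κ - 1) = 0 := by
      have h3 : (2 : F) = 0 := CharTwo.two_eq_zero
      linear_combination (-1 : F) * h1 - (κ - 1) * h3
    exact sub_eq_zero.mp (mul_self_eq_zero.mp h2)
  obtain ⟨B, hB⟩ := exists_of_fix he0 (D.act a) (D.act_add haC) hlin (hfix a ha) (by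
    intro x
    refine exists_smul_of_dt he0 ?_
    have h1 : dt e (D.act a x - x) = dt e (D.act a x) - dt e x := by
      unfold dt; simp only [Pi.sub_apply]; ring
    rw [h1, hdt, hκ1, one_mul, sub_self])
  exact ⟨B, by rw [← hB]; exact hfix a ha, (D.ind_iff haC).mpr hB⟩

/-- `W_y` acts nontrivially on `W_z/⟨z⟩` -/
theorem exists_nk (_ : One T V z)
    (_ : SQ1.FFOne.NatSec F (centralizer ({z} : Set G)) (ws V z) (zpowers z)) {y : G} (hy : y ∈ V)
    (hy1 : y ≠ 1) (hyz : y ≠ z) : ∃ a ∈ ws V y, a ∉ kq V z := by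
  by_contra hcon
  push Not at hcon
  exact h.not_comm_z hy hy1 hyz fun a ha w hw => (hcon a ha).2.1 w hw

theorem exists_nk_ap [Finite F] [CharP F 2] {y a : G} (hy : y ∈ V) (hy1 : y ≠ 1) (hyz : y ≠ z)
    (ha : a ∈ ws V y) (haK : a ∉ kq V z) : ∃ B, ap B (D.π y) = D.π y ∧ B ≠ 1 ∧ D.Ind a B := by
  obtain ⟨B, hB, hBa⟩ := act_ap h D hy hy1 hyz ha
  refine ⟨B, hB, ?_, hBa⟩
  rintro rfl
  exact haK ((mem_kern_iff' D).mp ((D.ind_one_iff (wy_le h hy hy1 ha)).mp hBa))

/-- commutators with an element of `W_y - K_z` -/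
theorem exists_cm [Finite F] [CharP F 2] {y a : G} (hy : y ∈ V) (hy1 : y ≠ 1) (hyz : y ≠ z)
    (ha : a ∈ ws V y) (haK : a ∉ kq V z) (c : F) :
    ∃ w ∈ ws V z, D.π (a * w * a⁻¹ * w⁻¹) = c • D.π y := by
  have haC := wy_le h hy hy1 ha
  obtain ⟨B, hB, hB1, hBa⟩ := exists_nk_ap h D hy hy1 hyz ha haK
  obtain ⟨x, hx⟩ := transv_surj (pi_ne h D (y_mem h hy) hy1 hyz) hB hB1 c
  obtain ⟨w, hw, rfl⟩ := D.surj x
  refine ⟨w, hw, ?_⟩
  rw [D.map_div (D.Vn a haC w hw) hw, ← D.act_π haC hw, (D.ind_iff haC).mp hBa, hx]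
  abel

/-- (1.1) `W_z ∩ W_y` is the preimage of `F · D.π y` -/
theorem mem_ws_iff [Finite F] [CharP F 2] {y w : G} (hy : y ∈ V) (hy1 : y ≠ 1) (hyz : y ≠ z)
    (hw : w ∈ ws V z) : w ∈ ws V y ↔ ∃ c : F, D.π w = c • D.π y := by
  obtain ⟨a, ha, haK⟩ := exists_nk h D h D hy hy1 hyz
  have haC := wy_le h hy hy1 ha
  constructor
  · intro hwy
    obtain ⟨B, hB, hB1, hBa⟩ := exists_nk_ap h D hy hy1 hyz ha haK
    have h1 := act_comm h D haC hw (h.comm hy hy1 a ha w hwy)
    rw [(D.ind_iff haC).mp hBa] at h1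
    exact transv_fix (pi_ne h D (y_mem h hy) hy1 hyz) hB hB1 h1
  · rintro ⟨c, hc⟩
    obtain ⟨v, hv, hcv⟩ := exists_cm h D hy hy1 hyz ha haK c
    have hi := h.comm_mem_ii hy hy1 h.ln.z_mem h.ln.z_ne (Ne.symm hyz) ha hv
    rcases pi_eq h D hw (ii_le h.ln.z_mem h.ln.z_ne hi) (by rw [hc, hcv]) with e | e
    · rw [e]; exact ii_le hy hy1 hi
    · rw [e]; exact mul_mem (h.V_le hy hy1 h.ln.z_mem) (ii_le hy hy1 hi)

theorem fix_mem [Finite F] [CharP F 2] {y a w : G} (hy : y ∈ V) (hy1 : y ≠ 1) (hyz : y ≠ z)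
    (ha : a ∈ ws V y) (haK : a ∉ kq V z) (hw : w ∈ ws V z) (hc : a * w * a⁻¹ * w⁻¹ ∈ zpowers z) :
    w ∈ ws V y := by
  have haC := wy_le h hy hy1 ha
  rw [mem_ws_iff h D hy hy1 hyz hw]
  obtain ⟨B, hB, hB1, hBa⟩ := exists_nk_ap h D hy hy1 hyz ha haK
  refine transv_fix (pi_ne h D (y_mem h hy) hy1 hyz) hB hB1 ?_
  rw [← (D.ind_iff haC).mp hBa, D.act_π haC hw, D.eq_iff (D.Vn a haC w hw) hw]
  exact hc

/-- an element of `K_y ∩ C_G(V)` acting as `c ↦ c + 1` -/
theorem exists_frob [Finite F] [CharP F 2] {y : G} (hy : y ∈ V) (hy1 : y ≠ 1) (hyz : y ≠ z) {c : F}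
    (hc0 : c ≠ 0) (hc1 : c ≠ 1) {u : G} (hu : u ∈ ws V z) (huc : D.π u = c • D.π y) :
    ∃ k ∈ kq V y, k ∈ centralizer (V : Set G) ∧ k * u * k⁻¹ = y * u := by
  have he0 := pi_ne h D (y_mem h hy) hy1 hyz
  have huy := (mem_ws_iff h D hy hy1 hyz hu).mpr ⟨c, huc⟩
  have hui := h.mem_ii hy hy1 h.ln.z_mem h.ln.z_ne (Ne.symm hyz) huy hu
  refine h.fu hui ?_ hy hy1
  intro huV
  rcases h.ln.four h.ln.z_mem hy h.ln.z_ne hy1 (Ne.symm hyz) huV with e | e | e | e
  · rw [e, D.map_one] at huc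
    rcases smul_eq_zero.mp huc.symm with e1 | e1
    · exact hc0 e1
    · exact he0 e1
  · rw [e, pi_z h D] at huc
    rcases smul_eq_zero.mp huc.symm with e1 | e1
    · exact hc0 e1
    · exact he0 e1
  · rw [e] at huc
    have h1 : (1 : F) • D.π y = c • D.π y := by rw [one_smul]; exact huc
    exact hc1 (smul_left_injective F he0 h1).symm
  · rw [e, D.map_mul z (z_mem_ws h) y (y_mem h hy), pi_z h D, zero_add] at huc
    have h1 : (1 : F) • D.π y = c • D.π y := by rw [one_smul]; exact huc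
    exact hc1 (smul_left_injective F he0 h1).symm

/-- (1.3) -/
theorem field_four [Finite F] [CharP F 2] {y : G} (hy : y ∈ V) (hy1 : y ≠ 1) (hyz : y ≠ z) {c : F}
    (hc0 : c ≠ 0) (hc1 : c ≠ 1) (d : F) : d = 0 ∨ d = 1 ∨ d = c ∨ d = c + 1 := by
  have he0 := pi_ne h D (y_mem h hy) hy1 hyz
  have hyW := y_mem h hy
  obtain ⟨u, hu, huc⟩ := D.surj (c • D.π y)
  obtain ⟨k, hk, hkV, hku⟩ := exists_frob h D hy hy1 hyz hc0 hc1 hu huc
  have hkC := h.cent_le_centralizer h.ln.z_mem hkV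
  obtain ⟨s, hs⟩ := D.exists_semi hkC
  have hke : D.act k (D.π y) = D.π y := act_comm h D hkC hyW (h.V_comm hy hkV).symm
  have h1 : s c = c + 1 := by
    have h2 := D.act_π hkC hu
    rw [huc, hs, hke, hku, D.map_mul y hyW u hu, huc] at h2
    have h3 : s c • D.π y = (c + 1) • D.π y := by rw [h2, add_smul, one_smul, add_comm]
    exact smul_left_injective F he0 h3
  have h2 : ∀ d : F, s d = d ∨ s d = d + 1 := by
    intro d
    obtain ⟨w, hw, hwd⟩ := D.surj (d • D.π y)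
    have hwy := (mem_ws_iff h D hy hy1 hyz hw).mpr ⟨d, hwd⟩
    have h3 := D.act_π hkC hw
    rw [hwd, hs, hke] at h3
    rcases h.kq_cases hy hk hwy with e | e
    · left
      rw [e, hwd] at h3
      exact smul_left_injective F he0 h3
    · right
      rw [e, D.map_mul y hyW w hw, hwd] at h3
      have h4 : s d • D.π y = (d + 1) • D.π y := by rw [h3, add_smul, one_smul, add_comm]
      exact smul_left_injective F he0 h4
  have h2' : (2 : F) = 0 := CharTwo.two_eq_zero
  rcases h2 d with e | e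
  · have h3 : s (c * d) = c * d + d := by rw [map_mul, h1, e]; ring
    rcases h2 (c * d) with e1 | e1
    · left
      rw [e1] at h3
      exact left_eq_add.mp h3
    · right; left
      rw [e1] at h3
      exact (add_left_cancel h3).symm
  · have h3 : s (c * d) = c * d + (c + d + 1) := by rw [map_mul, h1, e]; ring
    rcases h2 (c * d) with e1 | e1
    · right; right; right
      rw [e1] at h3
      have h4 := left_eq_add.mp h3
      linear_combination h4 - (c + 1) * h2'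
    · right; right; left
      rw [e1] at h3
      have h4 := add_left_cancel h3
      linear_combination (-1 : F) * h4 - c * h2'

/-- exchange of `z` and `y` -/
theorem exists_swap (_ : SQ1.FFOne.NatSec F (centralizer ({z} : Set G)) (ws V z) (zpowers z)) {y : G}
    (hy : y ∈ V) (hy1 : y ≠ 1) (hyz : y ≠ z) :
    ∃ k : G, k * z * k⁻¹ = y ∧ k * y * k⁻¹ = z := by
  have hz := h.ln.z_mem
  have hz1 := h.ln.z_ne
  have hr : z * y ∈ V := mul_mem hz hy
  have hr1 : z * y ≠ 1 := h.mul_ne_one hy (Ne.symm hyz)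
  have hrz : z ≠ z * y := fun e => hy1 (by simpa using e.symm)
  have hry : y ≠ z * y := fun e => hz1 (by simpa using e.symm)
  obtain ⟨k, hk, hk1⟩ := h.exists_mover hr hr1
  refine ⟨k, ?_, ?_⟩
  · rw [h.move hr hr1 hz hz1 hrz hk hk1, h.ln.comm hz hy, mul_assoc, h.ln.zz, mul_one]
  · rw [h.move hr hr1 hy hy1 hry hk hk1, mul_assoc, h.ln.sq y hy, mul_one]

/-- `fix_mem` with `z` and `y` exchanged -/
theorem fix_mem' [Finite F] [CharP F 2] {y a w : G} (hy : y ∈ V) (hy1 : y ≠ 1) (hyz : y ≠ z)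
    (hw : w ∈ ws V z) (hwK : w ∉ kq V y) (ha : a ∈ ws V y) (hc : a * w * a⁻¹ * w⁻¹ ∈ zpowers y) :
    a ∈ ws V z := by
  obtain ⟨k, hkz, hky⟩ := exists_swap h D D hy hy1 hyz
  have h1 : k * w * k⁻¹ ∈ ws V y := by rw [← hkz]; exact conj_mem_ws k hw
  have h2 : k * a * k⁻¹ ∈ ws V z := by
    have := conj_mem_ws k ha
    rwa [hky] at this
  have h3 : k * w * k⁻¹ ∉ kq V z := by
    intro e
    apply hwK
    have e1 := conj_mem_kq k⁻¹ e
    have e2 : k⁻¹ * (k * w * k⁻¹) * k⁻¹⁻¹ = w := by group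
    have e3 : k⁻¹ * z * k⁻¹⁻¹ = y := by rw [← hky]; group
    rwa [e2, e3] at e1
  have h4 : k * w * k⁻¹ * (k * a * k⁻¹) * (k * w * k⁻¹)⁻¹ * (k * a * k⁻¹)⁻¹ ∈ zpowers z := by
    have e1 : k * w * k⁻¹ * (k * a * k⁻¹) * (k * w * k⁻¹)⁻¹ * (k * a * k⁻¹)⁻¹ =
        k * (a * w * a⁻¹ * w⁻¹)⁻¹ * k⁻¹ := by group
    rw [e1, (zpz h)]
    rcases (mem_zpowers_iff_of_mul_self (h.ln.sq y hy)).mp hc with e | e
    · left; rw [e]; group
    · right; rw [e, h.ln.inv_eq hy, hky]
  have h5 := fix_mem h D hy hy1 hyz h1 h3 h2 h4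
  have h6 := conj_mem_ws k⁻¹ h5
  have e2 : k⁻¹ * (k * a * k⁻¹) * k⁻¹⁻¹ = a := by group
  have e3 : k⁻¹ * y * k⁻¹⁻¹ = z := by rw [← hkz]; group
  rwa [e2, e3] at h6

theorem ws_le_kq {p : G} (hp : p ∈ V) (hp1 : p ≠ 1) : ws V p ≤ kq V p := by
  intro a ha
  have haC : a ∈ centralizer ({p} : Set G) :=
    h.cent_le_centralizer hp (h.ws_le_centralizer_V hp hp1 ha)
  refine ⟨haC, fun w hw => ?_, fun w hw => ?_⟩
  · rw [h.comm hp hp1 a ha w hw, mul_inv_cancel_right, mul_inv_cancel]; exact one_mem _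
  · have : a⁻¹ * w * a = w := by rw [mul_assoc, ← h.comm hp hp1 a ha w hw, inv_mul_cancel_left]
    rw [this, mul_inv_cancel]; exact one_mem _

/-- (1.4): `W_z ∩ K_y` is not contained in `W_y` -/
theorem exists_ek [Finite F] [CharP F 2] (h4 : ∃ c : F, c ≠ 0 ∧ c ≠ 1) {y : G} (hy : y ∈ V) (hy1 : y ≠ 1)
    (hyz : y ≠ z) : ∃ w ∈ ws V z, w ∈ kq V y ∧ w ∉ ws V y := by
  by_contra hcon
  push Not at hcon
  have he0 := pi_ne h D (y_mem h hy) hy1 hyz
  have hyW := y_mem h hy
  obtain ⟨c, hc0, hc1⟩ := h4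
  obtain ⟨a, ha, haK⟩ := exists_nk h D h D hy hy1 hyz
  obtain ⟨w, hw, hwc⟩ := exists_cm h D hy hy1 hyz ha haK c
  set i := a * w * a⁻¹ * w⁻¹ with hi
  have hii := h.comm_mem_ii hy hy1 h.ln.z_mem h.ln.z_ne (Ne.symm hyz) ha hw
  have hiz : i ∈ ws V z := ii_le h.ln.z_mem h.ln.z_ne hii
  obtain ⟨k, hk, hkV, hki⟩ := exists_frob h D hy hy1 hyz hc0 hc1 hiz hwc
  have hkC := h.cent_le_centralizer h.ln.z_mem hkV
  set w₁ := k * w * k⁻¹ with hw₁
  have hw₁z : w₁ ∈ ws V z := D.Vn k hkC w hw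
  -- `[a, w₁] = y i`
  have hyc : ∀ v ∈ ws V z, y * v = v * y := fun v hv => h.comm h.ln.z_mem h.ln.z_ne y hyW v hv
  have h1 : a * w₁ * a⁻¹ * w₁⁻¹ = y * i := by
    have e1 : k * i * k⁻¹ = (k * a * k⁻¹) * w₁ * (k * a * k⁻¹)⁻¹ * w₁⁻¹ := by rw [hi, hw₁]; group
    rw [← hki, e1]
    rcases h.kq_cases hy hk ha with e | e
    · rw [e]
    · rw [e]
      have hawy : a * w₁ * a⁻¹ ∈ ws V z := D.Vn a (wy_le h hy hy1 ha) _ hw₁z
      have e2 : y * (a * w₁ * a⁻¹) * y⁻¹ = a * w₁ * a⁻¹ := by rw [hyc _ hawy, mul_inv_cancel_right]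
      calc a * w₁ * a⁻¹ * w₁⁻¹ = (y * (a * w₁ * a⁻¹) * y⁻¹) * w₁⁻¹ := by rw [e2]
        _ = y * a * w₁ * (y * a)⁻¹ * w₁⁻¹ := by group
  -- `[a, w₁ w⁻¹] = y`
  have hcomm : ∀ v ∈ ws V z, ∀ v' ∈ ws V z, v * v' = v' * v := h.comm h.ln.z_mem h.ln.z_ne
  have haw₁ : a * w₁ * a⁻¹ ∈ ws V z := D.Vn a (wy_le h hy hy1 ha) _ hw₁z
  have haw : a * w * a⁻¹ ∈ ws V z := D.Vn a (wy_le h hy hy1 ha) _ hw
  have h2 : a * (w₁ * w⁻¹) * a⁻¹ * (w₁ * w⁻¹)⁻¹ = y := by
    have e1 : a * w₁ * a⁻¹ = y * i * w₁ := by rw [← h1]; group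
    have e2 : a * w * a⁻¹ = i * w := by rw [hi]; group
    have e3 : w₁ * w⁻¹ = w⁻¹ * w₁ := hcomm _ hw₁z _ (inv_mem hw)
    calc a * (w₁ * w⁻¹) * a⁻¹ * (w₁ * w⁻¹)⁻¹ = (a * w₁ * a⁻¹) * (a * w * a⁻¹)⁻¹ * (w₁ * w⁻¹)⁻¹ := by group
      _ = y * i * w₁ * (i * w)⁻¹ * (w₁ * w⁻¹)⁻¹ := by rw [e1, e2]
      _ = y * i * (w₁ * w⁻¹) * i⁻¹ * (w₁ * w⁻¹)⁻¹ := by group
      _ = y * (i * (w₁ * w⁻¹)) * i⁻¹ * (w₁ * w⁻¹)⁻¹ := by group
      _ = y * ((w₁ * w⁻¹) * i) * i⁻¹ * (w₁ * w⁻¹)⁻¹ := by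
          rw [hcomm i hiz _ (mul_mem hw₁z (inv_mem hw))]
      _ = y := by group
  have hww : w₁ * w⁻¹ ∈ ws V z := mul_mem hw₁z (inv_mem hw)
  by_cases hK : w₁ * w⁻¹ ∈ kq V y
  · have h3 := hcon _ hww hK
    rw [h.comm hy hy1 a ha _ h3, mul_inv_cancel_right, mul_inv_cancel] at h2
    exact hy1 h2.symm
  · have h3 := fix_mem' h D hy hy1 hyz hww hK ha (by rw [h2]; exact mem_zpowers y)
    exact haK (ws_le_kq h D h.ln.z_mem h.ln.z_ne h3)

end One

end Cfsg.Agent.Omega.RuShape.NatA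

end

section


/-!
# `M_x` natural for `SL₂(q')`: the Ru shape (helper881's text #12858, end of section 1)

`h : One T V z`, `D : NatSec F (C_G(z)) (ws V z) ⟨z⟩`, `4 ≤ |F|`:

* `scalar_one` : no element of `C_G(z)` acts as a scalar `≠ 1`;
* `exists_loc` : `∃ ρ, Loc (ws V z) z ρ`.
-/

set_option autoImplicit false
set_option linter.unusedSectionVars false

namespace Cfsg.Agent.Omega.RuShape.NatB

open Subgroup Cfsg Cfsg.Agent.ZN Cfsg.Agent.MinSimple.Geo Cfsg.Agent.Omega.CaseL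
open Cfsg.Agent.Omega.NO3S.TwoOne Cfsg.Agent.Omega.NatPair Cfsg.Agent.Omega.RuShape.NatA
open Cfsg.Agent.Omega.NOne.NatProd (dt_ap' exists_dt exists_basis' exists_transv)
open Cfsg.Agent.OddCyclic.GamPerm Cfsg.Agent.OddCyclic.GamLoc

universe u

/-! ### `S₅` -/

theorem s5_k4 : ∀ m : Fin 5, ∀ g : S5, g m = m → g * g = 1 → (∀ j, j ≠ m → g j ≠ j) → K4 m g := by
  decide +kernel

theorem s5_k4_eq : ∀ m : Fin 5, ∀ g : S5, K4 m g → ∀ h : S5, K4 m h → ∀ j, j ≠ m → g j = h j → g = h := by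
  decide +kernel

theorem s5_k4_move : ∀ m : Fin 5, ∀ g : S5, K4 m g → g ≠ 1 → ∀ j, j ≠ m → g j ≠ j ∧ g j ≠ m := by
  decide +kernel

theorem s5_gen : ∀ g : S5, Equiv.Perm.sign g = 1 → ∃ m : Fin 5, ∃ a : S5, K4 m a ∧ ∃ n : Fin 5, K4 n (a⁻¹ * g) := by
  decide +kernel

/-! ### the five lines -/

section Lines

variable {F : Type*} [Field F]

theorem exists_ln [Finite F] (hF : Nat.card F = 4) : ∃ ln : (Fin 2 → F) → Fin 5,
    (∀ x x', x ≠ 0 → x' ≠ 0 → (ln x = ln x' ↔ ∃ c : F, x' = c • x)) ∧ ∀ i, ∃ x, x ≠ 0 ∧ ln x = i := by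
  classical
  have h1 : Nat.card (Projectivization F (Fin 2 → F)) = 5 := by
    rw [Projectivization.card_of_finrank_two F (Fin 2 → F) (by simp), hF]
  have hfin : Finite (Projectivization F (Fin 2 → F)) := Nat.finite_of_card_ne_zero (by rw [h1]; norm_num)
  have e : Projectivization F (Fin 2 → F) ≃ Fin 5 := Finite.equivFinOfCardEq h1
  refine ⟨fun x => if hx : x ≠ 0 then e (Projectivization.mk F x hx) else 0, ?_, ?_⟩
  · intro x x' hx hx'
    beta_reduce
    rw [dif_pos hx, dif_pos hx', e.injective.eq_iff, eq_comm, Projectivization.mk_eq_mk_iff']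
    constructor
    · rintro ⟨c, hc⟩
      exact ⟨c, hc.symm⟩
    · rintro ⟨c, hc⟩
      exact ⟨c, hc.symm⟩
  · intro i
    obtain ⟨p, hp⟩ := e.surjective i
    refine ⟨p.rep, p.rep_nonzero, ?_⟩
    beta_reduce
    rw [dif_pos p.rep_nonzero, Projectivization.mk_rep, hp]

end Lines

variable {G : Type u} [Group G] {F : Type*} [Field F]

variable [Finite G] {T V : Subgroup G} {z : G}

section One

variable (h : One T V z) (D : SQ1.FFOne.NatSec F (centralizer ({z} : Set G)) (ws V z) (zpowers z))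

include h D

theorem kq_mul {y w : G} (hy : y ∈ V) (hy1 : y ≠ 1) (hyz : y ≠ z) (hw : w ∈ ws V z)
    (hwK : w ∈ kq V (z * y)) : w ∈ kq V y := by
  obtain ⟨k, hk, hk1⟩ := h.exists_mover h.ln.z_mem h.ln.z_ne
  have e1 := h.move h.ln.z_mem h.ln.z_ne hy hy1 hyz hk hk1
  have h1 := conj_mem_kq k⁻¹ hwK
  have e2 : k⁻¹ * (z * y) * k⁻¹⁻¹ = y := by rw [← e1]; group
  rw [e2] at h1
  rcases h.kq_cases h.ln.z_mem (inv_mem hk) hw with e | e
  · rwa [e] at h1
  · rw [e] at h1
    have hzK : z ∈ kq V y := ws_le_kq h D hy hy1 (h.V_le hy hy1 h.ln.z_mem)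
    exact (Subgroup.mul_mem_cancel_left _ hzK).mp h1

/-- (1.5): scalars -/
theorem scalar_one [Finite F] [CharP F 2] {y : G} (hy : y ∈ V) (hy1 : y ≠ 1) (hyz : y ≠ z) {m : G}
    (hm : m ∈ centralizer ({z} : Set G)) {ω : F} (hω : ∀ x, D.act m x = ω • x) : ω = 1 := by
  by_contra hω1
  have hyW := y_mem h hy
  have hzz := z_mem_ws h
  set e := D.π y with he
  have he0 : e ≠ 0 := pi_ne h D hyW hy1 hyz
  have hω0 : ω ≠ 0 := by
    intro e0
    have h1 := D.act_inv_act hm e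
    rw [hω, e0, zero_smul, D.act_zero (inv_mem hm)] at h1
    exact he0 h1.symm
  have h2' : (2 : F) = 0 := CharTwo.two_eq_zero
  have hωω : ω * ω = ω + 1 := by
    rcases field_four h D hy hy1 hyz hω0 hω1 (ω * ω) with e1 | e1 | e1 | e1
    · exact absurd (mul_self_eq_zero.mp e1) hω0
    · exfalso
      apply hω1
      have h3 : (ω - 1) * (ω - 1) = 0 := by linear_combination e1 - (ω - 1) * h2'
      exact sub_eq_zero.mp (mul_self_eq_zero.mp h3)
    · exfalso
      apply hω1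
      exact mul_left_cancel₀ hω0 (by rw [e1, mul_one])
    · exact e1
  have hω3 : ω * ω * ω = 1 := by rw [hωω]; linear_combination hωω + ω * h2'
  obtain ⟨u, hu⟩ := exists_dt he0
  have hee : dt e e = 0 := by unfold dt; ring
  obtain ⟨B, hBe, hBu⟩ := exists_basis' (w := e) (x := u) (w' := ω⁻¹ • e) (x' := ω • u)
    (by rw [hu]; exact one_ne_zero) (by
      have h3 : dt (ω⁻¹ • e) (ω • u) = ω⁻¹ * (ω * dt e u) := by
        unfold dt; simp only [Pi.smul_apply, smul_eq_mul]; ring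
      rw [h3, hu, mul_one, inv_mul_cancel₀ hω0])
  obtain ⟨d, hd, hdB⟩ := D.lift B
  set n := m * d with hn
  have hnC : n ∈ centralizer ({z} : Set G) := mul_mem hm hd
  have hnx : ∀ x, D.act n x = ω • ap B x := fun x => by
    rw [hn, D.act_mul hm hd, (D.ind_iff hd).mp hdB, hω]
  have hne : D.act n e = e := by
    rw [hnx, hBe, smul_smul, mul_inv_cancel₀ hω0, one_smul]
  have hndt : ∀ x, dt e (D.act n x) = ω * ω * dt e x := by
    intro x
    obtain ⟨α, β, rfl⟩ := exists_comb (by rw [hu]; exact one_ne_zero : dt e u ≠ 0) x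
    rw [hnx, ap_add, ap_smul, ap_smul, hBe, hBu]
    simp only [dt_add, dt_smul, hee, hu]
    ring
  -- conjugation by `n` preserves `W_z ∩ K_y`
  have hnE : ∀ v ∈ ws V z, v ∈ kq V y → n * v * n⁻¹ ∈ ws V z ∧ n * v * n⁻¹ ∈ kq V y := by
    intro v hv hvK
    refine ⟨D.Vn n hnC v hv, ?_⟩
    have h1 := conj_mem_kq n hvK
    have h2 : D.π (n * y * n⁻¹) = D.π y := by rw [← D.act_π hnC hyW]; exact hne
    rcases pi_eq h D (D.Vn n hnC y hyW) hyW h2 with e1 | e1
    · rwa [e1] at h1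
    · rw [e1] at h1
      exact kq_mul h D hy hy1 hyz (D.Vn n hnC v hv) h1
  have hndt' : ∀ v ∈ ws V z, dt e (D.π (n * v * n⁻¹)) = ω * ω * dt e (D.π v) := fun v hv => by
    rw [← D.act_π hnC hv, hndt]
  obtain ⟨w₀, hw₀, hw₀K, hw₀y⟩ := exists_ek h D ⟨ω, hω0, hω1⟩ hy hy1 hyz
  set δ := dt e (D.π w₀) with hδ
  have hδ0 : δ ≠ 0 := by
    intro e1
    exact hw₀y ((mem_ws_iff h D hy hy1 hyz hw₀).mpr (exists_smul_of_dt he0 e1))
  -- `w₁ ∈ W_z - K_y`
  obtain ⟨a, ha, haK⟩ := exists_nk h D h D hy hy1 hyz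
  obtain ⟨k, hkz, hky⟩ := exists_swap h D D hy hy1 hyz
  have hw₁ : k * a * k⁻¹ ∈ ws V z := by
    have := conj_mem_ws k ha
    rwa [hky] at this
  have hw₁K : k * a * k⁻¹ ∉ kq V y := by
    intro e1
    apply haK
    have e2 := conj_mem_kq k⁻¹ e1
    have e3 : k⁻¹ * (k * a * k⁻¹) * k⁻¹⁻¹ = a := by group
    have e4 : k⁻¹ * y * k⁻¹⁻¹ = z := by rw [← hkz]; group
    rwa [e3, e4] at e2
  set w₁ := k * a * k⁻¹ with hw₁d
  have hall : ∀ v ∈ ws V z, v ∈ kq V y → dt e (D.π w₁) = dt e (D.π v) → False := by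
    intro v hv hvK hvd
    apply hw₁K
    have h1 : w₁ * v⁻¹ ∈ ws V y := by
      rw [mem_ws_iff h D hy hy1 hyz (mul_mem hw₁ (inv_mem hv))]
      refine exists_smul_of_dt he0 ?_
      have h3 : dt e (D.π w₁ - D.π v) = dt e (D.π w₁) - dt e (D.π v) := by
        unfold dt; simp only [Pi.sub_apply]; ring
      rw [D.map_div hw₁ hv, h3, hvd, sub_self]
    have h2 := mul_mem (ws_le_kq h D hy hy1 h1) hvK
    rwa [inv_mul_cancel_right] at h2
  have hq := hnE w₀ hw₀ hw₀K
  have hq2 := hnE _ hq.1 hq.2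
  rcases field_four h D hy hy1 hyz hω0 hω1 (dt e (D.π w₁) / δ) with e1 | e1 | e1 | e1
  · rw [div_eq_zero_iff] at e1
    have e2 := e1.resolve_right hδ0
    refine hall 1 (one_mem _) (one_mem _) ?_
    rw [e2, D.map_one]
    unfold dt; simp
  · rw [div_eq_one_iff_eq hδ0] at e1
    exact hall w₀ hw₀ hw₀K e1
  · rw [div_eq_iff hδ0] at e1
    refine hall _ hq2.1 hq2.2 ?_
    rw [e1, hndt' _ hq.1, hndt' _ hw₀, ← hδ]
    linear_combination (-ω * δ) * hω3
  · rw [div_eq_iff hδ0] at e1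
    refine hall _ hq.1 hq.2 ?_
    rw [e1, hndt' _ hw₀, ← hδ, hωω]

/-- `|F| = 4` -/
theorem card_eq_four [Finite F] [CharP F 2] {y : G} (hy : y ∈ V) (hy1 : y ≠ 1) (hyz : y ≠ z)
    (h4 : 4 ≤ Nat.card F) : Nat.card F = 4 ∧ ∃ c : F, c ≠ 0 ∧ c ≠ 1 := by
  classical
  have hex : ∃ c : F, c ≠ 0 ∧ c ≠ 1 := by
    by_contra hcon
    push Not at hcon
    have h1 : Nat.card F ≤ 2 := by
      have h2 : Function.Surjective (![0, 1] : Fin 2 → F) := by
        intro c
        by_cases hc : c = 0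
        · exact ⟨0, by rw [hc]; rfl⟩
        · exact ⟨1, by rw [hcon c hc]; rfl⟩
      have h3 := Nat.card_le_card_of_surjective _ h2
      rwa [Nat.card_fin] at h3
    omega
  refine ⟨le_antisymm ?_ h4, hex⟩
  obtain ⟨c, hc0, hc1⟩ := hex
  have h2 : Function.Surjective (![0, 1, c, c + 1] : Fin 4 → F) := by
    intro d
    rcases field_four h D hy hy1 hyz hc0 hc1 d with e | e | e | e
    · exact ⟨0, by rw [e]; rfl⟩
    · exact ⟨1, by rw [e]; rfl⟩
    · exact ⟨2, by rw [e]; rfl⟩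
    · exact ⟨3, by rw [e]; rfl⟩
  have h3 := Nat.card_le_card_of_surjective _ h2
  rwa [Nat.card_fin] at h3

omit h in
/-- the action on the five lines -/
theorem exists_rho [Finite F] {ln : (Fin 2 → F) → Fin 5}
    (hl : ∀ x x', x ≠ 0 → x' ≠ 0 → (ln x = ln x' ↔ ∃ c : F, x' = c • x)) (hs : ∀ i, ∃ x, x ≠ 0 ∧ ln x = i) :
    ∃ ρ : centralizer ({z} : Set G) →* S5, ∀ (c : centralizer ({z} : Set G)) (x : Fin 2 → F), x ≠ 0 →
      ρ c (ln x) = ln (D.act c x) := by
  choose r hr0 hr using hs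
  have hne : ∀ (c : centralizer ({z} : Set G)) (x : Fin 2 → F), x ≠ 0 → D.act c x ≠ 0 := by
    intro c x hx e
    apply hx
    have h1 := D.act_inv_act c.2 x
    rw [e, D.act_zero (inv_mem c.2)] at h1
    exact h1.symm
  have hla : ∀ (c : centralizer ({z} : Set G)) (x x' : Fin 2 → F), x ≠ 0 → x' ≠ 0 → ln x = ln x' →
      ln (D.act c x) = ln (D.act c x') := by
    intro c x x' hx hx' e
    obtain ⟨a, rfl⟩ := (hl x x' hx hx').mp e
    obtain ⟨s, hs⟩ := D.exists_semi c.2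
    rw [hl _ _ (hne c x hx) (hne c _ hx')]
    exact ⟨s a, hs a x⟩
  have hmul : ∀ (c d : centralizer ({z} : Set G)) (i : Fin 5),
      ln (D.act c (r (ln (D.act d (r i))))) = ln (D.act ((c * d : centralizer ({z} : Set G)) : G) (r i)) := by
    intro c d i
    have e : ((c * d : centralizer ({z} : Set G)) : G) = c * d := rfl
    rw [e, D.act_mul c.2 d.2]
    exact hla c _ _ (hr0 _) (hne d _ (hr0 i)) (hr _)
  have hone : ∀ i, ln (D.act ((1 : centralizer ({z} : Set G)) : G) (r i)) = i := fun i => by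
    have e : ((1 : centralizer ({z} : Set G)) : G) = 1 := rfl
    rw [e, D.act_one, hr]
  let f : centralizer ({z} : Set G) → S5 := fun c =>
    { toFun := fun i => ln (D.act c (r i))
      invFun := fun i => ln (D.act ((c⁻¹ : centralizer ({z} : Set G)) : G) (r i))
      left_inv := fun i => by
        beta_reduce
        rw [hmul, inv_mul_cancel]; exact hone i
      right_inv := fun i => by
        beta_reduce
        rw [hmul, mul_inv_cancel]; exact hone i }
  refine ⟨MonoidHom.mk' f ?_, ?_⟩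
  · intro c d
    ext1 i
    exact (hmul c d i).symm
  · intro c x hx
    change ln (D.act c (r (ln x))) = _
    exact hla c _ _ (hr0 _) hx (hr _)

/-- `ρ` describes the action on the lines -/
def IsRho (D : SQ1.FFOne.NatSec F (centralizer ({z} : Set G)) (ws V z) (zpowers z)) (ln : (Fin 2 → F) → Fin 5)
    (ρ : centralizer ({z} : Set G) →* S5) : Prop :=
  (∀ x x', x ≠ 0 → x' ≠ 0 → (ln x = ln x' ↔ ∃ c : F, x' = c • x)) ∧ (∀ i, ∃ x, x ≠ 0 ∧ ln x = i) ∧
  ∀ (c : centralizer ({z} : Set G)) (x : Fin 2 → F), x ≠ 0 → ρ c (ln x) = ln (D.act c x)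

theorem indep {e u : Fin 2 → F} (hu : dt e u = 1) {a b a' b' : F} (hab : a • e + b • u = a' • e + b' • u) :
    a = a' ∧ b = b' := by
  have hee : dt e e = 0 := by unfold dt; ring
  have huu : dt u u = 0 := by unfold dt; ring
  have hue : dt u e = -1 := by rw [← hu]; unfold dt; ring
  constructor
  · have h1 := congrArg (dt u) hab
    simp only [dt_add, dt_smul, huu, hue] at h1
    linear_combination (-1 : F) * h1
  · have h1 := congrArg (dt e) hab
    simp only [dt_add, dt_smul, hee, hu] at h1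
    linear_combination h1

omit h in
theorem rho_ne {c : centralizer ({z} : Set G)} {x : Fin 2 → F} (hx : x ≠ 0) : D.act c x ≠ 0 := by
  intro e
  apply hx
  have h1 := D.act_inv_act c.2 x
  rw [e, D.act_zero (inv_mem c.2)] at h1
  exact h1.symm

theorem rho_one [Finite F] [CharP F 2] {y : G} (hy : y ∈ V) (hy1 : y ≠ 1) (hyz : y ≠ z)
    {ln : (Fin 2 → F) → Fin 5} {ρ : centralizer ({z} : Set G) →* S5} (hρ : IsRho D ln ρ)
    (c : centralizer ({z} : Set G)) : ρ c = 1 ↔ ∀ x, D.act c x = x := by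
  obtain ⟨hl, hs, hr⟩ := hρ
  constructor
  · intro h1
    have h2 : ∀ x, x ≠ 0 → ∃ a : F, D.act c x = a • x := by
      intro x hx
      have h3 := hr c x hx
      rw [h1, Equiv.Perm.one_apply] at h3
      exact (hl _ _ hx (rho_ne D hx)).mp h3
    have he0 : (D.π y) ≠ 0 := pi_ne h D (y_mem h hy) hy1 hyz
    set e := D.π y with he
    obtain ⟨u, hu⟩ := exists_dt he0
    have hee : dt e e = 0 := by unfold dt; ring
    have hu0 : u ≠ 0 := by
      intro e1
      rw [e1] at hu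
      have : dt e (0 : Fin 2 → F) = 0 := by unfold dt; simp
      rw [this] at hu
      exact zero_ne_one hu
    obtain ⟨α, hα⟩ := h2 e he0
    obtain ⟨β, hβ⟩ := h2 u hu0
    obtain ⟨s, hs⟩ := D.exists_semi c.2
    have hsum : ∀ t : F, e + t • u ≠ 0 := by
      intro t e1
      have h3 : (1 : F) • e + t • u = (0 : F) • e + (0 : F) • u := by
        rw [one_smul, e1, zero_smul, zero_smul, add_zero]
      exact one_ne_zero (indep h D hu h3).1
    have h3 : ∀ t : F, s t * β = t * α := by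
      intro t
      obtain ⟨γ, hγ⟩ := h2 _ (hsum t)
      rw [D.act_add c.2, hs, hα, hβ, smul_smul, smul_add, smul_smul] at hγ
      obtain ⟨h4, h5⟩ := indep h D hu hγ
      rw [h5, h4, mul_comm]
    have hαβ : β = α := by
      have := h3 1
      rwa [map_one, one_mul, one_mul] at this
    have hα0 : α ≠ 0 := by
      intro e1
      rw [e1, zero_smul] at hα
      exact rho_ne D he0 hα
    have hs1 : ∀ t, s t = t := by
      intro t
      have := h3 t
      rw [hαβ] at this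
      exact mul_right_cancel₀ hα0 this
    have h4 : ∀ x, D.act c x = α • x := by
      intro x
      obtain ⟨a, b, rfl⟩ := exists_comb (by rw [hu]; exact one_ne_zero : dt e u ≠ 0) x
      rw [D.act_add c.2, hs, hs, hs1, hs1, hα, hβ, hαβ, smul_add, smul_comm a α, smul_comm b α]
    have h5 := scalar_one h D hy hy1 hyz c.2 h4
    intro x
    rw [h4, h5, one_smul]
  · intro h1
    ext1 i
    obtain ⟨x, hx, rfl⟩ := hs i
    rw [hr c x hx, h1, Equiv.Perm.one_apply]

omit h in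
theorem transv_sq [CharP F 2] {e : Fin 2 → F} (he0 : e ≠ 0) {B : Matrix.SpecialLinearGroup (Fin 2) F}
    (hB : ap B e = e) (x : Fin 2 → F) : ap B (ap B x) = x := by
  obtain ⟨t, ht⟩ := exists_transv he0 hB
  have hee : dt e e = 0 := by unfold dt; ring
  rw [ht (ap B x), ht x, dt_add, dt_smul, hee, mul_zero, add_zero, add_assoc, ← add_smul,
    CharTwo.add_self_eq_zero, zero_smul, add_zero]

/-- the four-groups are induced by transvections -/
theorem rho_k4 [Finite F] [CharP F 2] {y : G} (hy : y ∈ V) (hy1 : y ≠ 1) (hyz : y ≠ z)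
    {ln : (Fin 2 → F) → Fin 5} {ρ : centralizer ({z} : Set G) →* S5} (hρ : IsRho D ln ρ) {m : Fin 5} {g : S5}
    (hg : K4 m g) : ∃ c : centralizer ({z} : Set G), (∃ B, D.Ind c B) ∧ ρ c = g := by
  by_cases hg1 : g = 1
  · exact ⟨1, ⟨1, D.ind_one⟩, by rw [map_one, hg1]⟩
  have h1 := rho_one h D hy hy1 hyz hρ
  obtain ⟨hl, hs, hr⟩ := hρ
  obtain ⟨e, he0, hem⟩ := hs m
  obtain ⟨j, hj⟩ : ∃ j : Fin 5, j ≠ m := exists_ne m
  obtain ⟨x, hx0, hxj⟩ := hs j
  obtain ⟨hk1, hk2⟩ := s5_k4_move m g hg hg1 j hj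
  obtain ⟨x', hx0', hxk⟩ := hs (g j)
  have hdt : ∀ {x : Fin 2 → F}, x ≠ 0 → ln x ≠ m → dt e x ≠ 0 := by
    intro x hx hxm e1
    apply hxm
    rw [← hem]
    exact ((hl e x he0 hx).mpr (exists_smul_of_dt he0 e1)).symm
  have hd := hdt hx0 (by rw [hxj]; exact hj)
  have hd' := hdt hx0' (by rw [hxk]; exact hk2)
  obtain ⟨B, hB, hBx⟩ := exists_basis' (w := e) (x := x) (w' := e) (x' := (dt e x / dt e x') • x') hd
    (by rw [dt_smul, div_mul_cancel₀ _ hd'])
  obtain ⟨c, hc, hcB⟩ := D.lift B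
  have hact : ∀ x, D.act c x = ap B x := (D.ind_iff hc).mp hcB
  refine ⟨⟨c, hc⟩, ⟨B, hcB⟩, ?_⟩
  have e1 : ρ ⟨c, hc⟩ m = m := by
    rw [← hem, hr _ _ he0]
    change ln (D.act c e) = ln e
    rw [hact, hB]
  have e2 : ρ ⟨c, hc⟩ j = g j := by
    rw [← hxj, hr _ _ hx0, hxj, ← hxk]
    change ln (D.act c x) = ln x'
    rw [hact, hBx]
    have h3 : (dt e x / dt e x') • x' ≠ 0 := smul_ne_zero (div_ne_zero hd hd') hx0'
    exact ((hl _ _ hx0' h3).mpr ⟨_, rfl⟩).symm
  have e3 : ρ ⟨c, hc⟩ * ρ ⟨c, hc⟩ = 1 := by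
    rw [← map_mul, h1]
    intro v
    change D.act (c * c) v = v
    rw [D.act_mul hc hc, hact, hact, transv_sq D he0 hB]
  obtain ⟨t, ht⟩ := exists_transv he0 hB
  have hee : dt e e = 0 := by unfold dt; ring
  have e4 : ∀ i, i ≠ m → ρ ⟨c, hc⟩ i ≠ i := by
    intro i hi e5
    obtain ⟨v, hv0, rfl⟩ := hs i
    have hdv := hdt hv0 hi
    rw [hr _ _ hv0] at e5
    change ln (D.act c v) = ln v at e5
    have hv' : D.act c v ≠ 0 := rho_ne D (c := ⟨c, hc⟩) hv0
    obtain ⟨a, ha⟩ := (hl _ _ hv0 hv').mp e5.symm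
    rw [hact, ht] at ha
    have h3 := congrArg (dt e) ha
    rw [dt_add, dt_smul, dt_smul, hee, mul_zero, add_zero] at h3
    have ha1 : a = 1 := by
      have h4 : (1 : F) * dt e v = a * dt e v := by rw [one_mul]; exact h3
      exact (mul_right_cancel₀ hdv h4).symm
    rw [ha1, one_smul] at ha
    have h5 := add_eq_left.mp ha
    rcases smul_eq_zero.mp h5 with h6 | h6
    · have ht0 := (mul_eq_zero.mp h6).resolve_right hdv
      apply hk1
      rw [← e2, ← hxj, hr _ _ hx0]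
      change ln (D.act c x) = ln x
      rw [hact, ht, ht0, zero_mul, zero_smul, add_zero]
    · exact he0 h6
  exact s5_k4_eq m _ (s5_k4 m _ e1 e3 e4) _ hg j hj e2

theorem rho_even [Finite F] [CharP F 2] {y : G} (hy : y ∈ V) (hy1 : y ≠ 1) (hyz : y ≠ z)
    {ln : (Fin 2 → F) → Fin 5} {ρ : centralizer ({z} : Set G) →* S5} (hρ : IsRho D ln ρ) {g : S5}
    (hg : Equiv.Perm.sign g = 1) : ∃ c : centralizer ({z} : Set G), (∃ B, D.Ind c B) ∧ ρ c = g := by
  obtain ⟨m, a, ha, n, hb⟩ := s5_gen g hg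
  obtain ⟨c, ⟨B, hB⟩, hc⟩ := rho_k4 h D hy hy1 hyz hρ ha
  obtain ⟨d, ⟨B', hB'⟩, hd⟩ := rho_k4 h D hy hy1 hyz hρ hb
  exact ⟨c * d, ⟨B * B', D.ind_mul c.2 d.2 hB hB'⟩, by rw [map_mul, hc, hd, mul_inv_cancel_left]⟩

theorem rho_fpf [Finite F] [CharP F 2] {y : G} (hy : y ∈ V) (hy1 : y ≠ 1) (hyz : y ≠ z)
    {ln : (Fin 2 → F) → Fin 5} {ρ : centralizer ({z} : Set G) →* S5} (hρ : IsRho D ln ρ)
    {c : centralizer ({z} : Set G)} (hc : O3 (ρ c)) {x : Fin 2 → F} (hx : D.act c x = x) : x = 0 := by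
  by_contra hx0
  obtain ⟨d, ⟨B, hB⟩, hd⟩ := rho_even h D hy hy1 hyz hρ hc.sign
  have h1 : ∀ v, D.act c v = ap B v := by
    intro v
    have h2 : ρ (c * d⁻¹) = 1 := by rw [map_mul, map_inv, hd, mul_inv_cancel]
    have h3 := (rho_one h D hy hy1 hyz hρ _).mp h2 (D.act d v)
    have e : ((c * d⁻¹ : centralizer ({z} : Set G)) : G) = c * (d : G)⁻¹ := rfl
    rw [e, D.act_mul c.2 (inv_mem d.2), D.act_inv_act d.2] at h3
    rw [h3, (D.ind_iff d.2).mp hB]
  have h2 : ap B x = x := by rw [← h1]; exact hx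
  have h3 : ρ c * ρ c = 1 := by
    rw [← map_mul, rho_one h D hy hy1 hyz hρ]
    intro v
    change D.act ((c : G) * c) v = v
    rw [D.act_mul c.2 c.2, h1, h1, transv_sq D hx0 h2]
  have h4 := hc.1
  rw [h3, one_mul] at h4
  exact hc.2 h4

theorem card_ws [Finite F] (h4 : Nat.card F = 4) : Nat.card (ws V z) = 32 := by
  have hzW := z_mem_ws h
  have hle : zpowers z ≤ ws V z := (zpowers_le).mpr hzW
  let f : ws V z →* Multiplicative (Fin 2 → F) :=
    { toFun := fun w => Multiplicative.ofAdd (D.π w)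
      map_one' := by
        change Multiplicative.ofAdd (D.π 1) = 1
        rw [D.map_one]; rfl
      map_mul' := fun v w => by
        change Multiplicative.ofAdd (D.π ((v : G) * w)) = _
        rw [D.map_mul v v.2 w w.2]; rfl }
  have hf : Function.Surjective f := by
    intro x
    obtain ⟨w, hw, e⟩ := D.surj (Multiplicative.toAdd x)
    exact ⟨⟨w, hw⟩, by change Multiplicative.ofAdd (D.π w) = x; rw [e]; rfl⟩
  have h1 := Subgroup.card_eq_card_quotient_mul_card_subgroup f.ker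
  have h2 := Nat.card_congr (QuotientGroup.quotientKerEquivOfSurjective f hf).toEquiv
  have h3 : Nat.card (Multiplicative (Fin 2 → F)) = 16 := by
    rw [Nat.card_congr Multiplicative.toAdd, Nat.card_fun, h4, Nat.card_fin]
    norm_num
  have h5 : Nat.card f.ker = 2 := by
    have h6 : f.ker = (zpowers z).subgroupOf (ws V z) := by
      ext w
      rw [MonoidHom.mem_ker, mem_subgroupOf]
      change Multiplicative.ofAdd (D.π w) = 1 ↔ _
      rw [← D.ker w w.2]
      rfl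
    rw [h6, Nat.card_congr (subgroupOfEquivOfLe hle).toEquiv, Nat.card_zpowers]
    exact orderOf_eq_prime (by rw [pow_two]; exact h.ln.zz) h.ln.z_ne
  rw [h1, h2, h3, h5]

/-- **the Ru shape** -/
theorem exists_loc [Finite F] [CharP F 2] (h4 : 4 ≤ Nat.card F) : ∃ ρ, Loc (ws V z) z ρ := by
  obtain ⟨y, hy, hy1, hyz⟩ := h.ln.exists_y
  obtain ⟨hF, -⟩ := card_eq_four h D hy hy1 hyz h4
  obtain ⟨ln, hl, hs⟩ := exists_ln hF
  obtain ⟨ρ, hr⟩ := exists_rho D hl hs
  have hρ : IsRho D ln ρ := ⟨hl, hs, hr⟩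
  have hcg : ∀ v ∈ ws V z, ∀ w ∈ ws V z, (Cg z v w ↔ D.π v = D.π w) := by
    intro v hv w hw
    have hzw : w * z = z * w := h.comm h.ln.z_mem h.ln.z_ne w hw z (z_mem_ws h)
    rw [D.eq_iff hv hw, zpz h]
    unfold Cg
    rw [mul_inv_eq_one, mul_inv_eq_iff_eq_mul, hzw]
  refine ⟨ρ, ?_⟩
  exact
    { x_ne := h.ln.z_ne
      x_mem := z_mem_ws h
      comm := h.comm h.ln.z_mem h.ln.z_ne
      sq := h.sq h.ln.z_mem h.ln.z_ne
      norm := fun c hc w hw => D.Vn c hc w hw
      card := card_ws h D hF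
      even := fun g hg => by
        obtain ⟨c, _, hc⟩ := rho_even h D hy hy1 hyz hρ hg
        exact ⟨c, hc⟩
      ker := fun c => by
        rw [rho_one h D hy hy1 hyz hρ]
        constructor
        · intro h1 w hw
          rw [hcg _ (D.Vn c c.2 w hw) _ hw, ← D.act_π c.2 hw, h1]
        · intro h1 x
          obtain ⟨w, hw, rfl⟩ := D.surj x
          rw [D.act_π c.2 hw]
          exact (hcg _ (D.Vn c c.2 w hw) _ hw).mp (h1 w hw)
      fpf := fun c hc w hw hw' => by
        rw [hcg _ (D.Vn c c.2 w hw) _ hw, ← D.act_π c.2 hw] at hw'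
        have h1 := rho_fpf h D hy hy1 hyz hρ hc hw'
        exact (zpz h).mp ((D.ker w hw).mp h1) }

end One

end Cfsg.Agent.Omega.RuShape.NatB

end

section


/-!
# From `One T V z` with `W_z/⟨z⟩` natural to the Ru configuration
-/

set_option autoImplicit false
set_option linter.unusedSectionVars false

namespace Cfsg.Agent.Omega.RuShape.OfOne

open Subgroup Cfsg Cfsg.Agent.ZN Cfsg.Agent.MinSimple.Geo Cfsg.Agent.Omega.CaseL
open Cfsg.Agent.Omega.NO3S.TwoOne Cfsg.Agent.Omega.RuShape.Base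

universe u

variable {G : Type u} [Group G] [Finite G] {T V : Subgroup G} {z : G} {F : Type*} [Field F]

/-- centralisers of involutions have characteristic 2 -/
theorem c2_of (hc : IsCharacteristicTwoType G) {v : G} (hv : v * v = 1) (hv1 : v ≠ 1) :
    ∃ O : Subgroup G, IsPGroup 2 O ∧ O ≤ centralizer ({v} : Set G) ∧
      centralizer ({v} : Set G) ≤ normalizer (O : Set G) ∧
      ∀ c ∈ centralizer ({v} : Set G), c ∈ centralizer (O : Set G) → c ∈ O :=
  ⟨o2 (centralizer ({v} : Set G)), isPGroup_o2 _, o2_le _, le_normalizer_o2 _, fun _ hc1 hc2 =>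
    inf_centralizer_o2_le hc (isTwoLocal_centralizer hv hv1) ⟨hc1, hc2⟩⟩

/-- sections 0 and 1 of helper881's text #12858 -/
theorem ru_of_one [Finite F] [CharP F 2] (h : One T V z)
    (core : ∀ U : Subgroup G, IsPGroup 2 U → normalizer (V : Set G) ≤ normalizer (U : Set G) →
      centralizer ({z} : Set G) ≤ normalizer (U : Set G) → U = ⊥)
    (D : SQ1.FFOne.NatSec F (centralizer ({z} : Set G)) (ws V z) (zpowers z)) (h4 : 4 ≤ Nat.card F) :
    Ru V z where
  card_V := h.ln.card_V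
  sq := h.ln.sq
  z_mem := h.ln.z_mem
  trans := h.ln.trans
  move := by
    obtain ⟨y, hy, hy1, hyz⟩ := h.ln.exists_y
    obtain ⟨k, hk, hk1⟩ := h.exists_mover h.ln.z_mem h.ln.z_ne
    exact ⟨k, kq_le_centralizer V z hk, y, hy, by
      rw [h.move h.ln.z_mem h.ln.z_ne hy hy1 hyz hk hk1, h.ln.comm h.ln.z_mem hy], hy1, hyz⟩
  loc := NatB.exists_loc h D h4
  core := core
  noncomm := fun v hv hv1 hvz => h.exists_nc h.ln.z_mem h.ln.z_ne hv hv1 hvz
  c2 := fun v hv hv1 => c2_of h.ln.charTwo hv hv1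

end Cfsg.Agent.Omega.RuShape.OfOne

end

section


/-!
# The Ru configuration: the end of helper881's text #12858 from the second class (section 4)
-/

set_option autoImplicit false
set_option linter.dupNamespace false
set_option linter.unusedSectionVars false

namespace Cfsg.Agent.Omega.RuShape.Base

open Subgroup Cfsg Cfsg.Agent.ZN Cfsg.Agent.MinSimple.Geo Cfsg.Agent.MinSimple.OddBase
open Cfsg.Agent.OddCyclic Cfsg.Agent.OddCyclic.GamPerm Cfsg.Agent.OddCyclic.GamMod Cfsg.Agent.OddCyclic.GamLoc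

universe u

variable {G : Type u} [Group G]

namespace Ru

variable {V : Subgroup G} {z : G} [Finite G]

/-- the text #12858 from section 4: every plane has a second class -/
theorem false_of_second (h : Ru V z)
    (hsec : ∀ E, Pl V z E → ∃ v : G, v * v = 1 ∧ (∀ g : G, g * z * g⁻¹ ≠ v) ∧
      ∀ i : G, i * i = 1 → i ≠ 1 → i * v = v * i →
        i ∈ E ∨ ∀ g : G, g * z * g⁻¹ * i = i * (g * z * g⁻¹) → g * z * g⁻¹ ∈ E) : False := by
  refine h.false_of fun E hE g => ?_
  obtain ⟨v, hv, hvz, h4⟩ := hsec E hE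
  exact NOThree.Ru.exists_comm_of_second (h.xx (Pt.refl z)) h.z_ne hv hvz h4 g

end Ru

end Cfsg.Agent.Omega.RuShape.Base

end

end

-- merged: Cfsg.Agent.Mrg.Omega.RuShape.Final
section

/-!
# helper881's text #12858: `q = 2`, `n = 1`, `M_x` natural for `SL₂(q')`, `q' ≥ 4`, is impossible

* `Ru.false` : the Ru configuration is impossible in a group of characteristic 2 type;
* `natural_false` : `One T V z`, no 2-subgroup `≠ 1` normal in `N(V)` and `C(z)`, `W_z/⟨z⟩` a natural `SL₂(F)`-module for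
  `C(z)`, `4 ≤ |F|`: contradiction.
-/

set_option autoImplicit false
set_option linter.unusedSectionVars false

namespace Cfsg.Agent.Omega.RuShape

open Subgroup Cfsg Cfsg.Agent.MinSimple.Geo

universe u

variable {G : Type u} [Group G] [Finite G] {T V : Subgroup G} {z : G}

/-- the Ru configuration is impossible in a group of characteristic 2 type -/
theorem Base.Ru.false (hc : IsCharacteristicTwoType G) (h : Base.Ru V z) : False :=
  h.false_of_second fun _ hE => (hE.plane h).second hc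

/-- **helper881's text #12858.** -/
theorem natural_false {F : Type*} [Field F] [Finite F] [CharP F 2] (h : NO3S.TwoOne.One T V z)
    (core : ∀ U : Subgroup G, IsPGroup 2 U → normalizer (V : Set G) ≤ normalizer (U : Set G) →
      centralizer ({z} : Set G) ≤ normalizer (U : Set G) → U = ⊥)
    (D : SQ1.FFOne.NatSec F (centralizer ({z} : Set G)) (ws V z) (zpowers z)) (h4 : 4 ≤ Nat.card F) : False :=
  Base.Ru.false h.ln.charTwo (OfOne.ru_of_one h core D h4)

end Cfsg.Agent.Omega.RuShape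

end

-- merged: Cfsg.Agent.Mrg.Omega.NO3S.KOne.FiveAbs
section

section


/-!
# NO-3S TwoOne (helper881's text #18307), section 5: a module of order 16 (`k = 1`), pure part

`Core l m l' m' a a' x` : `M` has order 16 and basis `l, m, l', m'`; `a, a' = x a x⁻¹` are involutions,
`[l', a] = m`, `[m', a] = l + m`, `[l, a'] = m'`, `[m, a'] = l' + m'`, `a` centralises `l, m`, `a'` centralises `l', m'`,
`C_H(a) = Stab(l)`.

* `E` : the coordinates `F₄² → M`; `a` acts as `up w`, `a'` as `lo w`;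
* `Core.cyc` : if the orbit of `l` is the orbit under `d = a a'`, then `⟨d⟩` is normal (and `a d ≠ d a`).
-/

set_option autoImplicit false
set_option linter.unusedSectionVars false

namespace Cfsg.Agent.Omega.NO3S.KOne.Five

open Cfsg.Agent.Lib.FieldFour Cfsg.Agent.Lib.SL2Mat Subgroup

/-- `SL₂(4)` -/
abbrev SL := Matrix.SpecialLinearGroup (Fin 2) F4

/-- the action on pairs -/
def ap (A : SL) (x : F4 × F4) : F4 × F4 :=
  (ent A 0 0 * x.1 + ent A 0 1 * x.2, ent A 1 0 * x.1 + ent A 1 1 * x.2)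

theorem ap_mul (A B : SL) (x : F4 × F4) : ap (A * B) x = ap A (ap B x) := by
  unfold ap
  simp only [ent_mul]
  ext <;> ring

theorem ap_one (x : F4 × F4) : ap 1 x = x := by
  unfold ap
  simp

theorem ap_add (A : SL) (x y : F4 × F4) : ap A (x + y) = ap A x + ap A y := by
  unfold ap
  ext <;> simp only [Prod.fst_add, Prod.snd_add] <;> ring

theorem ap_inv (A : SL) (x : F4 × F4) : ap A (ap A⁻¹ x) = x := by
  rw [← ap_mul, mul_inv_cancel, ap_one]

theorem ap_inv' (A : SL) (x : F4 × F4) : ap A⁻¹ (ap A x) = x := by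
  rw [← ap_mul, inv_mul_cancel, ap_one]

theorem ap_ext {A B : SL} (h : ∀ x, ap A x = ap B x) : A = B := by
  have h1 := h (1, 0)
  have h2 := h (0, 1)
  unfold ap at h1 h2
  simp only [mul_one, mul_zero, add_zero, zero_add, Prod.mk.injEq] at h1 h2
  exact ext_ent h1.1 h2.1 h1.2 h2.2

/-- scalar multiplication -/
def sm (s : F4) (x : F4 × F4) : F4 × F4 := (s * x.1, s * x.2)

theorem ap_sm (A : SL) (s : F4) (x : F4 × F4) : ap A (sm s x) = sm s (ap A x) := by
  unfold ap sm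
  ext <;> ring

theorem ap_up (c : F4) (x : F4 × F4) : ap (up c) x = (x.1 + c * x.2, x.2) := by
  unfold ap
  simp

theorem ap_lo (c : F4) (x : F4 × F4) : ap (lo c) x = (x.1, c * x.1 + x.2) := by
  unfold ap
  simp

/-- the matrix of `d = a a'` -/
def P : SL := up F4.w * lo F4.w

/-- `P` on pairs -/
def pf (x : F4 × F4) : F4 × F4 := (x.1 + F4.w * (F4.w * x.1 + x.2), F4.w * x.1 + x.2)

theorem ap_P (x : F4 × F4) : ap P x = pf x := by
  unfold P pf
  rw [ap_mul, ap_lo, ap_up]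

theorem pf_cases (x : F4 × F4) (hx : x ≠ 0) : ∃ t : F4, t ≠ 0 ∧
    (x = (t, 0) ∨ x = pf (t, 0) ∨ x = pf (pf (t, 0)) ∨ x = pf (pf (pf (t, 0))) ∨ x = pf (pf (pf (pf (t, 0))))) := by
  revert x
  decide

theorem pf_five (x : F4 × F4) : pf (pf (pf (pf (pf x)))) = x := by
  revert x
  decide

theorem P_five : P ^ 5 = 1 := by
  apply ap_ext
  intro x
  rw [ap_one]
  have : P ^ 5 = P * (P * (P * (P * P))) := by simp only [pow_succ, pow_zero, one_mul, mul_assoc]
  rw [this, ap_mul, ap_mul, ap_mul, ap_mul, ap_P, ap_P, ap_P, ap_P, ap_P, pf_five]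

/-- every nonzero vector is a `P^i`-image of a vector of the first line -/
theorem exists_pow (x : F4 × F4) (hx : x ≠ 0) : ∃ i : ℕ, ∃ t : F4, t ≠ 0 ∧ x = ap (P ^ i) (t, 0) := by
  obtain ⟨t, ht, e⟩ := pf_cases x hx
  rcases e with e | e | e | e | e
  · exact ⟨0, t, ht, by rw [pow_zero, ap_one, e]⟩
  · exact ⟨1, t, ht, by rw [pow_one, ap_P, e]⟩
  · exact ⟨2, t, ht, by rw [pow_two, ap_mul, ap_P, ap_P, e]⟩
  · refine ⟨3, t, ht, ?_⟩
    have : P ^ 3 = P * (P * P) := by simp only [pow_succ, pow_zero, one_mul, mul_assoc]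
    rw [this, ap_mul, ap_mul, ap_P, ap_P, ap_P, e]
  · refine ⟨4, t, ht, ?_⟩
    have : P ^ 4 = P * (P * (P * P)) := by simp only [pow_succ, pow_zero, one_mul, mul_assoc]
    rw [this, ap_mul, ap_mul, ap_mul, ap_P, ap_P, ap_P, ap_P, e]

/-- `lo c` is a conjugate of `up c` -/
theorem lo_eq (c : F4) : lo c = P ^ 2 * up c * (P ^ 2)⁻¹ := by
  rw [eq_mul_inv_iff_mul_eq]
  apply ap_ext
  intro x
  rw [ap_mul, ap_mul, pow_two, ap_mul, ap_mul, ap_P, ap_P, ap_P, ap_P, ap_lo, ap_up]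
  revert x c
  decide

section mod

variable {M H : Type*} [AddCommGroup M] [Group H] [DistribMulAction H M]

/-- the additive map `F₄ → M`, `1 ↦ l`, `w ↦ m` -/
def fe (l m : M) : F4 → M
  | .o => 0
  | .i => l
  | .w => m
  | .v => l + m

theorem fe_add (two : ∀ m : M, m + m = 0) (l m : M) (p q : F4) : fe l m (p + q) = fe l m p + fe l m q := by
  have hl := two l
  have hm := two m
  have h1 : l + (l + m) = m := by rw [← add_assoc, hl, zero_add]
  have h2 : m + (l + m) = l := by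
    calc m + (l + m) = l + (m + m) := by abel
      _ = l := by rw [hm, add_zero]
  cases p <;> cases q
  · exact (add_zero _).symm
  · exact (zero_add _).symm
  · exact (zero_add _).symm
  · exact (zero_add _).symm
  · exact (add_zero _).symm
  · exact hl.symm
  · rfl
  · exact h1.symm
  · exact (add_zero _).symm
  · exact add_comm _ _
  · exact hm.symm
  · exact h2.symm
  · exact (add_zero _).symm
  · exact (add_comm l (l + m) ▸ h1).symm
  · exact (add_comm m (l + m) ▸ h2).symm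
  · exact (two (l + m)).symm

theorem fe_inj {l m : M} (two : ∀ m : M, m + m = 0) (hl : l ≠ 0) (hm : m ≠ 0) (hlm : l ≠ m) {p : F4}
    (h : fe l m p = 0) : p = 0 := by
  cases p
  · rfl
  · exact absurd h hl
  · exact absurd h hm
  · exfalso
    apply hlm
    have h1 : l + m = 0 := h
    have : l = l + (m + m) := by rw [two, add_zero]
    rw [this, ← add_assoc, h1, zero_add]

/-- the coordinates -/
def E (l m l' m' : M) (x : F4 × F4) : M := fe l m x.1 + fe l' m' x.2

/-- the data of section 5 -/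
structure Core (l m l' m' : M) (a a' x : H) : Prop where
  two : ∀ n : M, n + n = 0
  card : Nat.card M = 16
  l0 : l ≠ 0
  m0 : m ≠ 0
  lm : l ≠ m
  lx : l' = x • l
  ax : a' = x * a * x⁻¹
  sq : a * a = 1
  cen : ∀ h : H, h • l = l ↔ h * a = a * h
  al : a • l = l
  am : a • m = m
  al' : a • l' = l' + m
  am' : a • m' = m' + (l + m)
  bl' : a' • l' = l'
  bm' : a' • m' = m'
  bl : a' • l = l + m'
  bm : a' • m = m + (l' + m')

namespace Core

variable {l m l' m' : M} {a a' x : H}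

theorem E_add (c : Core l m l' m' a a' x) (y z : F4 × F4) :
    E l m l' m' (y + z) = E l m l' m' y + E l m l' m' z := by
  unfold E
  rw [Prod.fst_add, Prod.snd_add, fe_add c.two, fe_add c.two]
  abel

theorem E_fst (l m l' m' : M) (p : F4) : E l m l' m' (p, 0) = fe l m p := add_zero _

theorem E_snd (l m l' m' : M) (q : F4) : E l m l' m' (0, q) = fe l' m' q := zero_add _

theorem E_zero (l m l' m' : M) : E l m l' m' 0 = 0 := add_zero 0

theorem a_fst (c : Core l m l' m' a a' x) (p : F4) : a • fe l m p = fe l m p := by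
  cases p
  · exact smul_zero a
  · exact c.al
  · exact c.am
  · change a • (l + m) = l + m
    rw [smul_add, c.al, c.am]

theorem a_snd (c : Core l m l' m' a a' x) (q : F4) :
    a • fe l' m' q = fe l' m' q + fe l m (F4.w * q) := by
  cases q
  · change a • (0 : M) = 0 + 0
    rw [smul_zero, add_zero]
  · exact c.al'
  · exact c.am'
  · change a • (l' + m') = l' + m' + l
    rw [smul_add, c.al', c.am']
    calc l' + m + (m' + (l + m)) = l' + m' + l + (m + m) := by abel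
      _ = l' + m' + l := by rw [c.two, add_zero]

theorem b_snd (c : Core l m l' m' a a' x) (q : F4) : a' • fe l' m' q = fe l' m' q := by
  cases q
  · exact smul_zero a'
  · exact c.bl'
  · exact c.bm'
  · change a' • (l' + m') = l' + m'
    rw [smul_add, c.bl', c.bm']

theorem b_fst (c : Core l m l' m' a a' x) (p : F4) :
    a' • fe l m p = fe l m p + fe l' m' (F4.w * p) := by
  cases p
  · change a' • (0 : M) = 0 + 0
    rw [smul_zero, add_zero]
  · exact c.bl
  · exact c.bm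
  · change a' • (l + m) = l + m + l'
    rw [smul_add, c.bl, c.bm]
    calc l + m' + (m + (l' + m')) = l + m + l' + (m' + m') := by abel
      _ = l + m + l' := by rw [c.two, add_zero]

/-- `h` acts as `A` -/
def Ind (l m l' m' : M) (h : H) (A : SL) : Prop := ∀ y, h • E l m l' m' y = E l m l' m' (ap A y)

theorem ind_a (c : Core l m l' m' a a' x) : Ind l m l' m' a (up F4.w) := by
  intro y
  rw [ap_up]
  unfold E
  rw [smul_add, c.a_fst, c.a_snd, fe_add c.two]
  abel

theorem ind_b (c : Core l m l' m' a a' x) : Ind l m l' m' a' (lo F4.w) := by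
  intro y
  rw [ap_lo]
  unfold E
  rw [smul_add, c.b_fst, c.b_snd, fe_add c.two]
  abel

theorem _root_.Cfsg.Agent.Omega.NO3S.KOne.Five.Core.Ind.mul {g h : H} {A B : SL}
    (hg : Ind l m l' m' g A) (hh : Ind l m l' m' h B) : Ind l m l' m' (g * h) (A * B) := by
  intro y
  rw [mul_smul, hh, hg, ap_mul]

theorem ind_one : Ind l m l' m' (1 : H) 1 := by
  intro y
  rw [one_smul, ap_one]

theorem _root_.Cfsg.Agent.Omega.NO3S.KOne.Five.Core.Ind.inv {g : H} {A : SL}
    (hg : Ind l m l' m' g A) : Ind l m l' m' g⁻¹ A⁻¹ := by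
  intro y
  rw [inv_smul_eq_iff, hg, ap_inv]

theorem _root_.Cfsg.Agent.Omega.NO3S.KOne.Five.Core.Ind.pow {g : H} {A : SL}
    (hg : Ind l m l' m' g A) (n : ℕ) : Ind l m l' m' (g ^ n) (A ^ n) := by
  induction n with
  | zero => rw [pow_zero, pow_zero]; exact ind_one
  | succ n ih => rw [pow_succ, pow_succ]; exact ih.mul hg

theorem ind_d (c : Core l m l' m' a a' x) : Ind l m l' m' (a * a') P := c.ind_a.mul c.ind_b

theorem E_eq_zero (c : Core l m l' m' a a' x) {y : F4 × F4} (h : E l m l' m' y = 0) : y = 0 := by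
  have h1 := c.ind_a y
  rw [h, smul_zero, ap_up] at h1
  have h2 : E l m l' m' (y.1 + F4.w * y.2, y.2) = E l m l' m' y + fe l m (F4.w * y.2) := by
    unfold E
    rw [fe_add c.two]
    abel
  rw [h2, h, zero_add] at h1
  have h3 := fe_inj c.two c.l0 c.m0 c.lm h1.symm
  have h4 : y.2 = 0 := by
    have : F4.w ≠ 0 := by decide
    exact (mul_eq_zero.mp h3).resolve_left this
  have h5 : fe l m y.1 = 0 := by
    have : E l m l' m' y = fe l m y.1 := by
      unfold E
      rw [h4]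
      exact add_zero _
    rw [← this, h]
  exact Prod.ext (fe_inj c.two c.l0 c.m0 c.lm h5) h4

theorem E_inj (c : Core l m l' m' a a' x) : Function.Injective (E l m l' m') := by
  intro y z h
  have h1 : E l m l' m' (y + z) = 0 := by rw [c.E_add, h, c.two]
  have h2 := c.E_eq_zero h1
  have h3 : ∀ y z : F4 × F4, y + z = 0 → y = z := by decide
  exact h3 y z h2

theorem finite (c : Core l m l' m' a a' x) : Finite M := by
  apply Nat.finite_of_card_ne_zero
  rw [c.card]
  norm_num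

theorem E_surj (c : Core l m l' m' a a' x) : Function.Surjective (E l m l' m') := by
  have := c.finite
  refine ((Nat.bijective_iff_injective_and_card _).mpr ⟨c.E_inj, ?_⟩).2
  rw [c.card, Nat.card_eq_fintype_card]
  rfl

/-- `C_M(a)` is the first line -/
theorem fix_iff (c : Core l m l' m' a a' x) (y : F4 × F4) : a • E l m l' m' y = E l m l' m' y ↔ y.2 = 0 := by
  rw [c.ind_a, ap_up, c.E_inj.eq_iff, Prod.ext_iff]
  constructor
  · rintro ⟨h, -⟩
    have h1 : F4.w * y.2 = 0 := by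
      have h2 : y.1 + F4.w * y.2 = y.1 := h
      exact add_eq_left.mp h2
    have : F4.w ≠ 0 := by decide
    exact (mul_eq_zero.mp h1).resolve_left this
  · intro h
    refine ⟨?_, rfl⟩
    change y.1 + F4.w * y.2 = y.1
    rw [h, mul_zero, add_zero]

theorem ind_unique [FaithfulSMul H M] (c : Core l m l' m' a a' x) {g h : H} {A : SL}
    (hg : Ind l m l' m' g A) (hh : Ind l m l' m' h A) : g = h := by
  refine FaithfulSMul.eq_of_smul_eq_smul (α := M) fun n => ?_
  obtain ⟨y, rfl⟩ := c.E_surj n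
  rw [hg, hh]

theorem ind_eq (c : Core l m l' m' a a' x) {g : H} {A B : SL}
    (hA : Ind l m l' m' g A) (hB : Ind l m l' m' g B) : A = B := by
  apply ap_ext
  intro y
  apply c.E_inj
  rw [← hA, ← hB]

theorem l_eq (l m l' m' : M) : E l m l' m' (1, 0) = l := add_zero _

theorem l'_eq (l m l' m' : M) : E l m l' m' (0, 1) = l' := zero_add _

theorem a_conj (c : Core l m l' m' a a' x) : a * (a * a') * a⁻¹ = (a * a')⁻¹ := by
  have h1 : a⁻¹ = a := inv_eq_of_mul_eq_one_right c.sq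
  have h2 : a' * a' = 1 := by
    rw [c.ax]
    calc x * a * x⁻¹ * (x * a * x⁻¹) = x * (a * a) * x⁻¹ := by group
      _ = 1 := by rw [c.sq]; group
  have h3 : a'⁻¹ = a' := inv_eq_of_mul_eq_one_right h2
  rw [mul_inv_rev, h1, h3, ← mul_assoc, c.sq, one_mul]

theorem d_five [FaithfulSMul H M] (c : Core l m l' m' a a' x) : (a * a') ^ 5 = 1 := by
  have h1 := c.ind_d.pow 5
  rw [P_five] at h1
  exact c.ind_unique h1 ind_one

theorem a_pow (c : Core l m l' m' a a' x) (i : ℤ) : a * (a * a') ^ i * a⁻¹ = (a * a') ^ (-i) := by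
  rw [← conj_zpow, c.a_conj, zpow_neg, inv_zpow]

theorem not_comm (c : Core l m l' m' a a' x) : a * a' ≠ a' * a := by
  intro e
  have h1 := (c.cen a').mpr e.symm
  rw [c.bl] at h1
  have h2 : m' = 0 := add_eq_left.mp h1
  have h3 := c.am'
  rw [h2, smul_zero, zero_add] at h3
  have h4 : l + m = 0 := h3.symm
  exact c.lm (by rw [← add_zero l, ← c.two m, ← add_assoc, h4, zero_add])

/-- **section 5, first case**: the orbit of `l` is the orbit under `d` -/
theorem cyc (c : Core l m l' m' a a' x) (ho : ∀ h : H, ∃ i : ℤ, h • l = (a * a') ^ i • l) :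
    (zpowers (a * a')).Normal ∧ a * (a * a') ≠ (a * a') * a := by
  set d := a * a' with hd
  have key : ∀ h : H, ∃ i : ℤ, h * a * h⁻¹ = d ^ i * a * (d ^ i)⁻¹ := by
    intro h
    obtain ⟨i, hi⟩ := ho h
    refine ⟨i, ?_⟩
    have h1 : ((d ^ i)⁻¹ * h) • l = l := by rw [mul_smul, hi, inv_smul_smul]
    have h2 := (c.cen _).mp h1
    calc h * a * h⁻¹ = d ^ i * ((d ^ i)⁻¹ * h * a) * h⁻¹ := by group
      _ = d ^ i * (a * ((d ^ i)⁻¹ * h)) * h⁻¹ := by rw [h2]
      _ = d ^ i * a * (d ^ i)⁻¹ := by group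
  have hdn : ∀ h : H, h * d * h⁻¹ ∈ zpowers d := by
    intro h
    obtain ⟨i, hi⟩ := key h
    obtain ⟨j, hj⟩ := key (h * x)
    have e1 : h * d * h⁻¹ = (h * a * h⁻¹) * (h * x * a * (h * x)⁻¹) := by
      rw [hd, c.ax]; group
    have e2 := c.a_pow (j - i)
    rw [← hd] at e2
    have e3 : a⁻¹ = a := inv_eq_of_mul_eq_one_right c.sq
    rw [e1, hi, hj]
    have e4 : d ^ i * a * (d ^ i)⁻¹ * (d ^ j * a * (d ^ j)⁻¹) = d ^ i * (a * d ^ (j - i) * a⁻¹) * (d ^ j)⁻¹ := by
      rw [e3]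
      have : d ^ (j - i) = (d ^ i)⁻¹ * d ^ j := by rw [← zpow_neg, ← zpow_add]; congr 1; ring
      rw [this]; group
    rw [e4, e2]
    exact mul_mem (mul_mem (zpow_mem (mem_zpowers d) i) (zpow_mem (mem_zpowers d) _))
      (inv_mem (zpow_mem (mem_zpowers d) j))
  refine ⟨⟨fun n hn h => ?_⟩, fun e => ?_⟩
  · obtain ⟨k, rfl⟩ := mem_zpowers_iff.mp hn
    rw [← conj_zpow]
    exact zpow_mem (hdn h) k
  · apply c.not_comm
    have h1 : a * a' = a' * a := by
      rw [hd, ← mul_assoc, c.sq, one_mul] at e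
      calc a * a' = a * (a * a' * a) := by rw [← e]
        _ = (a * a) * a' * a := by group
        _ = a' * a := by rw [c.sq, one_mul]
    exact h1

end Core

end mod

end Cfsg.Agent.Omega.NO3S.KOne.Five

end

section


/-!
# NO-3S TwoOne (helper881's text #18307), section 5: a module of order 16 (`k = 1`), all vectors are conjugate

`Core.iota` : if all nonzero vectors are conjugate to `l`, then `H` has a normal subgroup `SL₂(4)`, not centralised by `a`;
`Core.main` : both cases.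
-/

set_option autoImplicit false
set_option linter.unusedSectionVars false

namespace Cfsg.Agent.Omega.NO3S.KOne.Five

open Cfsg.Agent.Lib.FieldFour Cfsg.Agent.Lib.SL2Mat Subgroup

variable {M H : Type*} [AddCommGroup M] [Group H] [DistribMulAction H M]

/-- `b` is the conjugate of `a` at `v = h l` -/
def At (l : M) (a : H) (v : M) (b : H) : Prop := ∃ h : H, h • l = v ∧ b = h * a * h⁻¹

namespace Core

variable {l m l' m' : M} {a a' x : H}

theorem at_l (_ : Core l m l' m' a a' x) : At l a l a := ⟨1, one_smul _ _, by group⟩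

theorem at_l' (c : Core l m l' m' a a' x) : At l a l' a' := ⟨x, c.lx.symm, c.ax⟩

theorem at_conj {v : M} {b : H} (h : At l a v b) (g : H) : At l a (g • v) (g * b * g⁻¹) := by
  obtain ⟨k, rfl, rfl⟩ := h
  exact ⟨g * k, mul_smul _ _ _, by group⟩

theorem at_cen (c : Core l m l' m' a a' x) {v : M} {b : H} (h : At l a v b) (g : H) :
    g • v = v ↔ g * b = b * g := by
  obtain ⟨k, rfl, rfl⟩ := h
  have h1 := c.cen (k⁻¹ * g * k)
  have e1 : g • k • l = k • l ↔ (k⁻¹ * g * k) • l = l := by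
    rw [mul_smul, mul_smul, inv_smul_eq_iff]
  rw [e1, h1]
  constructor
  · intro e
    calc g * (k * a * k⁻¹) = k * (k⁻¹ * g * k * a) * k⁻¹ := by group
      _ = k * (a * (k⁻¹ * g * k)) * k⁻¹ := by rw [e]
      _ = k * a * k⁻¹ * g := by group
  · intro e
    calc k⁻¹ * g * k * a = k⁻¹ * (g * (k * a * k⁻¹)) * k := by group
      _ = k⁻¹ * (k * a * k⁻¹ * g) * k := by rw [e]
      _ = a * (k⁻¹ * g * k) := by group

theorem at_unique (c : Core l m l' m' a a' x) {v : M} {b b' : H} (h : At l a v b) (h' : At l a v b') :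
    b = b' := by
  obtain ⟨k, hk, rfl⟩ := h
  obtain ⟨k', hk', rfl⟩ := h'
  have h1 : (k'⁻¹ * k) • l = l := by rw [mul_smul, hk, ← hk', inv_smul_smul]
  have h2 := (c.cen _).mp h1
  calc k * a * k⁻¹ = k' * (k'⁻¹ * k * a) * k⁻¹ := by group
    _ = k' * (a * (k'⁻¹ * k)) * k⁻¹ := by rw [h2]
    _ = k' * a * k'⁻¹ := by group

theorem at_inj (c : Core l m l' m' a a' x) {v v' : M} {b : H} (h : At l a v b) (h' : At l a v' b) :
    v = v' := by
  obtain ⟨k, rfl, e⟩ := h
  obtain ⟨k', rfl, e'⟩ := h'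
  have h1 : (k'⁻¹ * k) * a = a * (k'⁻¹ * k) := by
    rw [e] at e'
    calc k'⁻¹ * k * a = k'⁻¹ * (k * a * k⁻¹) * k := by group
      _ = k'⁻¹ * (k' * a * k'⁻¹) * k := by rw [e']
      _ = a * (k'⁻¹ * k) := by group
  have h2 := (c.cen _).mpr h1
  rw [mul_smul, inv_smul_eq_iff] at h2
  exact h2

theorem at_sq (c : Core l m l' m' a a' x) {v : M} {b : H} (h : At l a v b) : b * b = 1 := by
  obtain ⟨k, -, rfl⟩ := h
  calc k * a * k⁻¹ * (k * a * k⁻¹) = k * (a * a) * k⁻¹ := by group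
    _ = 1 := by rw [c.sq]; group

theorem at_ne (c : Core l m l' m' a a' x) {v : M} {b : H} (h : At l a v b) : b ≠ 1 := by
  obtain ⟨k, -, rfl⟩ := h
  intro e
  have h1 : a = 1 := conj_eq_one_iff.mp e
  apply c.not_comm
  rw [h1, mul_one, one_mul]

theorem at_v_ne (c : Core l m l' m' a a' x) {v : M} {b : H} (h : At l a v b) : v ≠ 0 := by
  obtain ⟨k, rfl, -⟩ := h
  intro e
  exact c.l0 ((smul_eq_zero_iff_eq k).mp e)

theorem at_fix_self (c : Core l m l' m' a a' x) {v : M} {b : H} (h : At l a v b) : b • v = v :=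
  (c.at_cen h b).mpr rfl

/-- `C_M(b) = C_M(a)` for `u ∈ C_M(a)` -/
theorem fix_first (c : Core l m l' m' a a' x) {t : F4} {b : H}
    (h : At l a (E l m l' m' (t, 0)) b) (y : F4 × F4) :
    b • E l m l' m' y = E l m l' m' y ↔ y.2 = 0 := by
  rw [← c.fix_iff y]
  by_cases ht : t = 1
  · rw [ht, l_eq] at h
    rw [c.at_unique h c.at_l]
  -- `b` fixes the first line
  have h1 : a • E l m l' m' (t, 0) = E l m l' m' (t, 0) := (c.fix_iff (t, 0)).mpr rfl
  have h2 : a * b = b * a := (c.at_cen h a).mp h1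
  have h3 : b • l = l := (c.cen b).mpr h2.symm
  have ht0 : t ≠ 0 := by
    rintro rfl
    exact c.at_v_ne h (E_zero l m l' m')
  have h4 : b • fe l m t = fe l m t := by
    have := c.at_fix_self h
    rwa [E_fst] at this
  have h5 : ∀ p : F4, b • fe l m p = fe l m p := by
    have h6 : ∀ p t : F4, t ≠ 0 → t ≠ 1 → p = 0 ∨ p = 1 ∨ p = t ∨ p = 1 + t := by decide
    intro p
    rcases h6 p t ht0 ht with e | e | e | e
    · rw [e]; exact smul_zero b
    · rw [e]; exact h3
    · rw [e]; exact h4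
    · rw [e, fe_add c.two, smul_add, h4]
      have : b • fe l m 1 = fe l m 1 := h3
      rw [this]
  have key : ∀ p : F4, b • E l m l' m' (p, 0) = E l m l' m' (p, 0) := by
    intro p
    rw [E_fst]
    exact h5 p
  obtain ⟨k, hk, rfl⟩ := h
  -- `k⁻¹` maps the first line onto itself
  have h7 : ∀ n : M, (k * a * k⁻¹) • n = n ↔ a • k⁻¹ • n = k⁻¹ • n := by
    intro n
    rw [mul_smul, mul_smul, ← eq_inv_smul_iff]
  have h8 : ∀ p : F4, ∃ q : F4, k⁻¹ • E l m l' m' (p, 0) = E l m l' m' (q, 0) := by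
    intro p
    have h9 := (h7 _).mp (key p)
    obtain ⟨z, hz⟩ := c.E_surj (k⁻¹ • E l m l' m' (p, 0))
    rw [← hz] at h9
    have h10 := (c.fix_iff z).mp h9
    refine ⟨z.1, ?_⟩
    rw [← hz]
    congr 1
    exact Prod.ext rfl h10
  choose σ hσ using h8
  have hinj : Function.Injective σ := by
    intro p q e
    have h9 := hσ p
    rw [e, ← hσ q] at h9
    have h10 := c.E_inj (smul_left_cancel _ h9)
    exact (Prod.ext_iff.mp h10).1
  have hsurj := Finite.surjective_of_injective hinj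
  constructor
  · intro h9
    have h10 := (h7 _).mp h9
    obtain ⟨z, hz⟩ := c.E_surj (k⁻¹ • E l m l' m' y)
    rw [← hz] at h10
    have h11 := (c.fix_iff z).mp h10
    obtain ⟨p, hp⟩ := hsurj z.1
    have h12 : E l m l' m' y = E l m l' m' (p, 0) := by
      have h13 : k⁻¹ • E l m l' m' y = k⁻¹ • E l m l' m' (p, 0) := by
        rw [hσ p, hp, ← hz]
        congr 1
        exact Prod.ext rfl h11
      exact smul_left_cancel _ h13
    rw [h12]
    exact (c.fix_iff (p, 0)).mpr rfl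
  · intro h9
    have h10 := (c.fix_iff y).mp h9
    have h11 : y = (y.1, 0) := Prod.ext rfl h10
    rw [h11]
    exact key y.1

/-- `C_M(b)` is the `F₄`-line of `v` -/
theorem fix_line (c : Core l m l' m' a a' x) {z : F4 × F4} {b : H} (h : At l a (E l m l' m' z) b)
    (y : F4 × F4) : b • E l m l' m' y = E l m l' m' y ↔ ∃ s : F4, y = sm s z := by
  have hz : z ≠ 0 := by
    rintro rfl
    exact c.at_v_ne h (E_zero l m l' m')
  obtain ⟨i, t, ht, rfl⟩ := exists_pow z hz
  set d := a * a' with hd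
  have hdi : Ind l m l' m' (d ^ i) (P ^ i) := c.ind_d.pow i
  have h1 : At l a (E l m l' m' (t, 0)) ((d ^ i)⁻¹ * b * (d ^ i)⁻¹⁻¹) := by
    have := at_conj h (d ^ i)⁻¹
    rwa [← hdi, inv_smul_smul] at this
  have h2 := c.fix_first h1 (ap (P ^ i)⁻¹ y)
  have h3 : E l m l' m' y = d ^ i • E l m l' m' (ap (P ^ i)⁻¹ y) := by rw [hdi, ap_inv]
  have h4 : b • E l m l' m' y = E l m l' m' y ↔
      ((d ^ i)⁻¹ * b * (d ^ i)⁻¹⁻¹) • E l m l' m' (ap (P ^ i)⁻¹ y) = E l m l' m' (ap (P ^ i)⁻¹ y) := by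
    rw [h3, inv_inv, mul_smul, mul_smul, inv_smul_eq_iff]
  rw [h4, h2]
  constructor
  · intro h5
    refine ⟨(ap (P ^ i)⁻¹ y).1 * t⁻¹, ?_⟩
    rw [← ap_sm]
    have h6 : sm ((ap (P ^ i)⁻¹ y).1 * t⁻¹) (t, 0) = ap (P ^ i)⁻¹ y := by
      unfold sm
      refine Prod.ext ?_ ?_
      · change (ap (P ^ i)⁻¹ y).1 * t⁻¹ * t = (ap (P ^ i)⁻¹ y).1
        rw [mul_assoc, inv_mul_cancel₀ ht, mul_one]
      · change (ap (P ^ i)⁻¹ y).1 * t⁻¹ * 0 = (ap (P ^ i)⁻¹ y).2
        rw [mul_zero, h5]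
    rw [h6, ap_inv]
  · rintro ⟨s, rfl⟩
    rw [← ap_sm, ap_inv']
    change s * 0 = 0
    exact mul_zero s

/-- the elements at the first line are upper transvections -/
theorem ind_first (c : Core l m l' m' a a' x) {t : F4} {b : H} (h : At l a (E l m l' m' (t, 0)) b) :
    ∃ s : F4, Ind l m l' m' b (up s) := by
  have hfix : ∀ p : F4, b • fe l m p = fe l m p := by
    intro p
    have := (c.fix_first h (p, 0)).mpr rfl
    rwa [E_fst] at this
  -- `b n + n ∈ C_M(b)`
  have hcm : ∀ n : M, ∃ q : F4, b • n = n + fe l m q := by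
    intro n
    obtain ⟨z, hz⟩ := c.E_surj (b • n + n)
    have h1 : b • (b • n + n) = b • n + n := by
      rw [smul_add, ← mul_smul, c.at_sq h, one_smul, add_comm]
    rw [← hz] at h1
    have h2 := (c.fix_first h z).mp h1
    refine ⟨z.1, ?_⟩
    have h3 : E l m l' m' z = fe l m z.1 := by
      unfold E
      rw [h2]
      exact add_zero _
    rw [← h3, hz]
    calc b • n = b • n + (n + n) := by rw [c.two, add_zero]
      _ = n + (b • n + n) := by abel
  obtain ⟨s, hs⟩ := hcm l'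
  have hs' : b • l' = E l m l' m' (s, 1) := by
    rw [hs, add_comm]
    rfl
  have h1 := at_conj c.at_l' b
  rw [hs'] at h1
  have key : ∀ q : F4, b • fe l' m' q = fe l' m' q + fe l m (s * q) := by
    intro q
    obtain ⟨r, hr⟩ := hcm (fe l' m' q)
    have h2 : b • fe l' m' q = E l m l' m' (r, q) := by
      rw [hr, add_comm]
      rfl
    have h3 : (b * a' * b⁻¹) • E l m l' m' (r, q) = E l m l' m' (r, q) := by
      rw [← h2, mul_smul, mul_smul, inv_smul_smul, c.b_snd]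
    obtain ⟨u, hu⟩ := (c.fix_line h1 (r, q)).mp h3
    have h4 : q = u := by
      have : q = u * 1 := (Prod.ext_iff.mp hu).2
      rwa [mul_one] at this
    have h5 : r = u * s := (Prod.ext_iff.mp hu).1
    rw [hr, h5, ← h4, mul_comm q s]
  refine ⟨s, fun y => ?_⟩
  rw [ap_up]
  unfold E
  rw [smul_add, hfix, key, fe_add c.two]
  abel

section all

variable [FaithfulSMul H M] (c : Core l m l' m' a a' x) (hall : ∀ n : M, n ≠ 0 → ∃ h : H, h • l = n)
include c hall

theorem exists_at {n : M} (hn : n ≠ 0) : ∃ b, At l a n b := by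
  obtain ⟨h, hh⟩ := hall n hn
  exact ⟨h * a * h⁻¹, h, hh, rfl⟩

/-- all upper transvections occur -/
theorem exists_up (s : F4) (hs : s ≠ 0) : ∃ v b, At l a v b ∧ Ind l m l' m' b (up s) := by
  have h1 : ∀ t : {t : F4 // t ≠ 0}, ∃ b, At l a (E l m l' m' (t.1, 0)) b := by
    intro t
    refine c.exists_at hall fun e => t.2 ?_
    have := c.E_eq_zero e
    exact (Prod.ext_iff.mp this).1
  choose b hb using h1
  have h2 : ∀ t : {t : F4 // t ≠ 0}, ∃ s : {t : F4 // t ≠ 0}, Ind l m l' m' (b t) (up s.1) := by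
    intro t
    obtain ⟨s, hs⟩ := c.ind_first (hb t)
    refine ⟨⟨s, ?_⟩, hs⟩
    rintro rfl
    rw [up_zero] at hs
    exact c.at_ne (hb t) (c.ind_unique hs ind_one)
  choose σ hσ using h2
  have hinj : Function.Injective σ := by
    intro t t' e
    have h3 := hσ t
    rw [e] at h3
    have h4 : b t = b t' := c.ind_unique h3 (hσ t')
    have h5 := hb t
    rw [h4] at h5
    have h6 := c.E_inj (c.at_inj h5 (hb t'))
    exact Subtype.ext (Prod.ext_iff.mp h6).1
  obtain ⟨t, ht⟩ := Finite.surjective_of_injective hinj ⟨s, hs⟩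
  refine ⟨_, b t, hb t, ?_⟩
  have := hσ t
  rwa [ht] at this

/-- all elements of `SL₂(4)` are induced by elements of `⟨a^H⟩` -/
theorem exists_ind (A : SL) : ∃ h ∈ closure {b : H | ∃ v, At l a v b}, Ind l m l' m' h A := by
  set N := closure {b : H | ∃ v, At l a v b} with hN
  have hup : ∀ s : F4, ∃ h ∈ N, Ind l m l' m' h (up s) := by
    intro s
    by_cases hs : s = 0
    · rw [hs, up_zero]
      exact ⟨1, one_mem _, ind_one⟩
    · obtain ⟨v, b, hb, h⟩ := c.exists_up hall s hs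
      exact ⟨b, subset_closure ⟨v, hb⟩, h⟩
  have hd : a * a' ∈ N := mul_mem (subset_closure ⟨_, c.at_l⟩) (subset_closure ⟨_, c.at_l'⟩)
  have hlo : ∀ s : F4, ∃ h ∈ N, Ind l m l' m' h (lo s) := by
    intro s
    obtain ⟨h, hh, hi⟩ := hup s
    have h2 := c.ind_d.pow 2
    refine ⟨(a * a') ^ 2 * h * ((a * a') ^ 2)⁻¹, mul_mem (mul_mem (pow_mem hd 2) hh) (inv_mem (pow_mem hd 2)), ?_⟩
    rw [lo_eq]
    exact (h2.mul hi).mul h2.inv
  obtain ⟨p, q, r, s, rfl⟩ := exists_up_lo A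
  obtain ⟨h1, k1, i1⟩ := hup p
  obtain ⟨h2, k2, i2⟩ := hlo q
  obtain ⟨h3, k3, i3⟩ := hup r
  obtain ⟨h4, k4, i4⟩ := hlo s
  exact ⟨h1 * h2 * h3 * h4, mul_mem (mul_mem (mul_mem k1 k2) k3) k4, ((i1.mul i2).mul i3).mul i4⟩

/-- every `b ∈ a^H` is in `SL₂(4)` -/
theorem at_ind {v : M} {b : H} (h : At l a v b) : ∃ A : SL, Ind l m l' m' b A := by
  obtain ⟨z, rfl⟩ := c.E_surj v
  have hz : z ≠ 0 := by
    rintro rfl
    exact c.at_v_ne h (E_zero l m l' m')
  obtain ⟨i, t, ht, rfl⟩ := exists_pow z hz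
  have hdi : Ind l m l' m' ((a * a') ^ i) (P ^ i) := c.ind_d.pow i
  have h1 : At l a (E l m l' m' (t, 0)) (((a * a') ^ i)⁻¹ * b * ((a * a') ^ i)⁻¹⁻¹) := by
    have := at_conj h ((a * a') ^ i)⁻¹
    rwa [← hdi, inv_smul_smul] at this
  obtain ⟨s, hs⟩ := c.ind_first h1
  refine ⟨P ^ i * up s * (P ^ i)⁻¹, ?_⟩
  have h2 := (hdi.mul hs).mul hdi.inv
  have e : (a * a') ^ i * (((a * a') ^ i)⁻¹ * b * ((a * a') ^ i)⁻¹⁻¹) * ((a * a') ^ i)⁻¹ = b := by group
  rwa [e] at h2

/-- **section 5, second case** -/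
theorem iota : ∃ ι : SL →* H, Function.Injective ι ∧ ι.range.Normal ∧ ∃ g, a * ι g ≠ ι g * a := by
  set N := closure {b : H | ∃ v, At l a v b} with hN
  choose f hf hf' using c.exists_ind hall
  let ι : SL →* H :=
    { toFun := f
      map_one' := c.ind_unique (hf' 1) ind_one
      map_mul' := fun A B => c.ind_unique (hf' (A * B)) ((hf' A).mul (hf' B)) }
  have hι : ∀ A, Ind l m l' m' (ι A) A := hf'
  have hle : N ≤ ι.range := by
    refine (closure_le _).mpr ?_
    rintro b ⟨v, hb⟩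
    obtain ⟨A, hA⟩ := c.at_ind hall hb
    exact ⟨A, c.ind_unique (hι A) hA⟩
  have heq : ι.range = N := le_antisymm (by rintro _ ⟨A, rfl⟩; exact hf A) hle
  refine ⟨ι, ?_, ?_, lo F4.w, ?_⟩
  · intro A B e
    have h1 := hι A
    rw [e] at h1
    exact c.ind_eq h1 (hι B)
  · rw [heq]
    refine ⟨fun n hn g => ?_⟩
    have h1 : N ≤ N.comap (MulAut.conj g).toMonoidHom := by
      refine (closure_le _).mpr ?_
      rintro b ⟨v, hb⟩
      exact subset_closure ⟨_, at_conj hb g⟩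
    exact h1 hn
  · rw [c.ind_unique (hι (lo F4.w)) c.ind_b]
    exact c.not_comm

end all

/-- **section 5** -/
theorem main [FaithfulSMul H M] (c : Core l m l' m' a a' x) (ht : ∃ t : H, t • l = l ∧ t • m = l + m) :
    ((zpowers (a * a')).Normal ∧ a * (a * a') ≠ (a * a') * a) ∨
      ∃ ι : SL →* H, Function.Injective ι ∧ ι.range.Normal ∧ ∃ g, a * ι g ≠ ι g * a := by
  have hdi : ∀ i : ℕ, Ind l m l' m' ((a * a') ^ i) (P ^ i) := fun i => c.ind_d.pow i
  obtain ⟨t, ht1, ht2⟩ := ht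
  by_cases hm : ∃ h : H, h • l = m
  · right
    refine c.iota fun n hn => ?_
    obtain ⟨z, rfl⟩ := c.E_surj n
    have hz : z ≠ 0 := by
      rintro rfl
      exact hn (E_zero l m l' m')
    obtain ⟨i, p, hp, rfl⟩ := exists_pow z hz
    obtain ⟨h, hh⟩ := hm
    have h1 : ∃ k : H, k • l = E l m l' m' (p, 0) := by
      rw [E_fst]
      cases p
      · exact absurd rfl hp
      · exact ⟨1, one_smul _ _⟩
      · exact ⟨h, hh⟩
      · exact ⟨t * h, by rw [mul_smul, hh, ht2]; rfl⟩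
    obtain ⟨k, hk⟩ := h1
    exact ⟨(a * a') ^ i * k, by rw [mul_smul, hk, hdi]⟩
  · left
    apply c.cyc
    intro h
    obtain ⟨z, hz⟩ := c.E_surj (h • l)
    have hz0 : z ≠ 0 := by
      rintro rfl
      rw [E_zero] at hz
      exact c.l0 ((smul_eq_zero_iff_eq h).mp hz.symm)
    obtain ⟨i, p, hp, rfl⟩ := exists_pow z hz0
    refine ⟨(i : ℤ), ?_⟩
    rw [← hdi, E_fst] at hz
    rw [zpow_natCast]
    cases p
    · exact absurd rfl hp
    · exact hz.symm
    · exfalso
      refine hm ⟨((a * a') ^ i)⁻¹ * h, ?_⟩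
      rw [mul_smul, ← hz, inv_smul_smul]
      rfl
    · exfalso
      refine hm ⟨t⁻¹ * (((a * a') ^ i)⁻¹ * h), ?_⟩
      rw [mul_smul, mul_smul, ← hz, inv_smul_smul, inv_smul_eq_iff, ht2]
      rfl

end Core

end Cfsg.Agent.Omega.NO3S.KOne.Five

end

end

-- merged: Cfsg.Agent.Mrg.Omega.NO3S.SLTwo.App
section

section


/-!
# NO-3S, `q = 2`, `n = 1`, a normal subgroup `SL₂(F)` of `H`, `|F| ≥ 4`, not centralised by `A` ((A1) of helper881's #13700)

`h : One T V z`, `R : MRep V cg z M H`, `ι : SL(2,F) → H` injective with normal image, `[A, ι] ≠ 1`.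

* `exists_iota` : `ι` may be chosen with `ι⁻¹(T) = U`;
* `exists_cfg` : `M / C_M(H⁰)` is a configuration `Cfg`;
* `false_of` : impossible if `|A| ≥ 4` (`M` is natural, `RuShape.natural_false`), or if `C_M(H⁰) = 0`;
* `A_of` : otherwise `|F| = 4`, `|A| = 2`, `C_M(H⁰) ≠ 0`.
-/

set_option autoImplicit false
set_option linter.unusedSectionVars false

namespace Cfsg.Agent.Omega.NO3S.SLTwo

open Subgroup Cfsg Cfsg.Agent.ZN Cfsg.Agent.MinSimple.Geo Cfsg.Agent.Omega.CaseL
open Cfsg.Agent.Omega.NO3S.Fit Cfsg.Agent.Omega.NO3S.TwoOne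
open Cfsg.Agent.Lib.SL2Mat Cfsg.Agent.Lib.AutSL2
open Cfsg.Agent.ZN.Block (conj_mem_of_normalizer conj_mem_of_normalizer' le_normalizer_of_forall
  mem_normalizer_of)

universe u

/-- `ι` may be chosen with `ι⁻¹(T) = U` -/
theorem exists_iota {F : Type*} [Field F] [Finite F] [CharP F 2] {H : Type*} [Group H] [Finite H]
    (ι : Matrix.SpecialLinearGroup (Fin 2) F →* H) (hi : Function.Injective ι) (S : Sylow 2 H) :
    ∃ x : H, ∀ g, x * ι g * x⁻¹ ∈ (S : Subgroup H) ↔ g ∈ upG F := by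
  have : Fact (Nat.Prime 2) := ⟨Nat.prime_two⟩
  obtain ⟨Q, hQ⟩ := (sylU F 2).exists_comap_eq_of_injective hi
  obtain ⟨x, hx⟩ := MulAction.exists_smul_eq H Q S
  refine ⟨x, fun g => ?_⟩
  have h1 : x * ι g * x⁻¹ ∈ (S : Subgroup H) ↔ x * ι g * x⁻¹ ∈ S := Iff.rfl
  rw [h1, ← hx, mem_smul_sylow]
  have e : x⁻¹ * (x * ι g * x⁻¹) * x = ι g := by group
  rw [e]
  have h2 : g ∈ (Q : Subgroup H).comap ι ↔ g ∈ upG F := by
    rw [hQ]
    rfl
  exact h2

variable {G : Type u} [Group G] {T V : Subgroup G} {z : G} {M H : Type u} [AddCommGroup M] [Group H]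
  [DistribMulAction H M]

section app

variable (h : One T V z) (R : MRep V cg z M H) [Finite G]
include h

theorem img_le_T {y : G} (hy : y ∈ V) (hy1 : y ≠ 1) : R.img (ww V cg y) ≤ R.img T := by
  have hle : ww V cg y ≤ cg z := by rw [h.ww_cg hy hy1]; exact h.ws_le_cg hy hy1
  intro x hx
  obtain ⟨w, hw, rfl⟩ := (R.mem_img hle).1 hx
  exact (R.mem_img h.fam.T_le_cf).2 ⟨w, h.fam.ww_le_T' hy hy1 hw, rfl⟩

theorem norm_img {y : G} (hy : y ∈ V) (hy1 : y ≠ 1) (hyz : y ≠ z) {x : H} (hx : x • R.pi y = R.pi y) {a : H}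
    (ha : a ∈ R.img (ww V cg y)) : x * a * x⁻¹ ∈ R.img (ww V cg y) := by
  have hle : ww V cg y ≤ cg z := by rw [h.ww_cg hy hy1]; exact h.ws_le_cg hy hy1
  obtain ⟨w, hw, rfl⟩ := (R.mem_img hle).1 ha
  obtain ⟨w', hw', e, -⟩ := R.norm_A h.fam hy hy1 hy hy1 hyz hx hw
  rw [e]
  exact (R.mem_img hle).2 ⟨w', hw', rfl⟩

theorem sq_img {y : G} (hy : y ∈ V) (hy1 : y ≠ 1) {a : H} (ha : a ∈ R.img (ww V cg y)) : a * a = 1 := by
  have hle : ww V cg y ≤ cg z := by rw [h.ww_cg hy hy1]; exact h.ws_le_cg hy hy1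
  obtain ⟨w, hw, rfl⟩ := (R.mem_img hle).1 ha
  exact R.sq_A h.fam hy hy1 hw

theorem quad_img {y : G} (hy : y ∈ V) (hy1 : y ≠ 1) (hyz : y ≠ z) {a b : H} (ha : a ∈ R.img (ww V cg y))
    (hb : b ∈ R.img (ww V cg y)) (m : M) : a • (b • m - m) = b • m - m := by
  have hle : ww V cg y ≤ cg z := by rw [h.ww_cg hy hy1]; exact h.ws_le_cg hy hy1
  obtain ⟨w, hw, rfl⟩ := (R.mem_img hle).1 ha
  obtain ⟨v, hv, rfl⟩ := (R.mem_img hle).1 hb
  obtain ⟨u, hu, rfl⟩ := R.pi_surj m
  exact R.quad h.fam hy hy1 hyz hw hv hu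

variable {F : Type*} [Field F] [Finite F] [CharP F 2] {ι : Matrix.SpecialLinearGroup (Fin 2) F →* H}

/-- `ι(SL₂(F))` is trivial on `C_M(H⁰)` -/
theorem iota_cc (h4 : 4 ≤ Nat.card F) (hn : ι.range.Normal) {y : G} (hy : y ∈ V)
    (hy1 : y ≠ 1) (hyz : y ≠ z) (hnc : ∃ a ∈ R.img (ww V cg y), ∃ g, a * ι g ≠ ι g * a) (g) {m : M}
    (hm : m ∈ cc h R) : ι g • m = m := by
  obtain ⟨a, ha, g0, hg0⟩ := hnc
  let K : Subgroup H :=
    { carrier := {x | ∀ m ∈ cc h R, x • m = m}
      mul_mem' := fun {x y} hx hy m hm => by rw [mul_smul, hy m hm, hx m hm]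
      one_mem' := fun m _ => one_smul _ m
      inv_mem' := fun {x} hx m hm => by rw [inv_smul_eq_iff, hx m hm] }
  have hK : K.Normal := ⟨fun x hx s m hm => by
    rw [mul_smul, mul_smul, hx _ (cc_inv h R s⁻¹ hm), smul_inv_smul]⟩
  have hL : (K.comap ι).Normal := hK.comap ι
  obtain ⟨s, hs⟩ := hn.conj_mem (ι g0) ⟨g0, rfl⟩ a
  have h1 : s * g0⁻¹ ∈ K.comap ι := by
    rw [mem_comap, map_mul, hs, map_inv]
    have e : a * ι g0 * a⁻¹ * (ι g0)⁻¹ = (1 * a * 1⁻¹) * (ι g0 * a⁻¹ * (ι g0)⁻¹) := by group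
    rw [e]
    exact K.mul_mem (fun m hm => comm_cc h R hy hy1 hyz 1 ha hm)
      (fun m hm => comm_cc h R hy hy1 hyz _ (inv_mem ha) hm)
  have h2 : K.comap ι ≠ ⊥ := by
    intro e
    rw [e, mem_bot, mul_inv_eq_one] at h1
    apply hg0
    rw [h1] at hs
    nth_rewrite 2 [hs]
    group
  have h3 := eq_top_of_normal h4 hL h2
  have h4 : g ∈ K.comap ι := by rw [h3]; trivial
  exact h4 m hm

/-- `M / C_M(H⁰)` is a configuration -/
theorem cfg_of [Finite M] [Finite H] (h4 : 4 ≤ Nat.card F) (hi : Function.Injective ι) (hn : ι.range.Normal) {y : G}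
    (hy : y ∈ V) (hy1 : y ≠ 1) (hyz : y ≠ z) (hnc : ∃ a ∈ R.img (ww V cg y), ∃ g, a * ι g ≠ ι g * a)
    (hT : ∀ g, ι g ∈ R.img T ↔ g ∈ upG F) {N : Type u} [AddCommGroup N] [DistribMulAction H N] (p : M →+ N)
    (hp : Function.Surjective p) (hk : p.ker = cc h R) (hpe : ∀ (x : H) (m : M), p (x • m) = x • p m) :
    Cfg ι N (R.img T) (R.img (ww V cg y)) (p (R.pi y)) where
  inj := hi
  normal := hn
  two := fun n => by
    obtain ⟨m, rfl⟩ := hp n
    rw [← map_add, R.two h.fam, map_zero]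
  irr := fun X hX => by
    rcases sub_cc h R (X := X.comap p) (fun x m hm => by
      rw [AddSubgroup.mem_comap] at hm ⊢
      rw [hpe]
      exact hX _ _ hm) with e | e
    · left
      rw [eq_bot_iff]
      intro n hnX
      obtain ⟨m, rfl⟩ := hp n
      have := e (AddSubgroup.mem_comap.2 hnX)
      rw [← hk] at this
      exact this
    · right
      rw [eq_top_iff]
      intro n _
      obtain ⟨m, rfl⟩ := hp n
      have : m ∈ X.comap p := by rw [e]; trivial
      exact this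
  up_mem := fun b => (hT _).2 (Cfsg.Agent.Lib.AutSL2.up_mem b)
  of_mem := fun g hg => by
    obtain ⟨b, hb⟩ := mem_upG.1 ((hT g).1 hg)
    exact ⟨b, hb.symm⟩
  le := img_le_T h R hy hy1
  T_norm := fun t ht a ha => norm_img h R hy hy1 hyz (R.img_T_fix h.fam hy hy1 hyz ht) ha
  sq := fun a ha => sq_img h R hy hy1 ha
  quad := fun a ha b hb n => by
    obtain ⟨m, rfl⟩ := hp n
    rw [← hpe, ← map_sub, ← hpe, quad_img h R hy hy1 hyz ha hb]
  small := fun a ha _ => by
    have hle : ww V cg y ≤ cg z := by rw [h.ww_cg hy hy1]; exact h.ws_le_cg hy hy1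
    obtain ⟨w, hw, rfl⟩ := (R.mem_img hle).1 ha
    rw [← AddSubgroup.index_comap_of_surjective _ hp]
    rw [h.ww_cg hy hy1] at hw
    refine index_fix h R hy hy1 hyz hw fun m hm => ?_
    rw [AddSubgroup.mem_comap, mem_fixN, ← hpe, hm]
  nc := hnc
  v_ne := fun e => v0_not_mem h R hy hy1 hyz (hk ▸ e)
  v_fix := fun b => by
    rw [← hpe, R.img_T_fix h.fam hy hy1 hyz ((hT _).2 (Cfsg.Agent.Lib.AutSL2.up_mem b))]
  odd_norm := fun g hg hgv a ha => by
    refine norm_img h R hy hy1 hyz ?_ ha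
    rw [← hpe] at hgv
    have h1 : ι g • R.pi y - R.pi y ∈ cc h R := by
      rw [← hk, AddMonoidHom.mem_ker, map_sub, hgv, sub_self]
    have h2 : ∀ n : ℕ, ι g ^ n • R.pi y = R.pi y + n • (ι g • R.pi y - R.pi y) := by
      intro n
      induction n with
      | zero => simp
      | succ n ih =>
        have h3 := iota_cc h R h4 hn hy hy1 hyz hnc g (AddSubgroup.nsmul_mem _ h1 n)
        rw [pow_succ', mul_smul, ih, smul_add, h3, succ_nsmul]
        abel
    have h3 := h2 (orderOf g)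
    rw [← map_pow, pow_orderOf_eq_one, map_one, one_smul] at h3
    obtain ⟨k, hk'⟩ := hg
    rw [hk', add_nsmul, mul_comm, mul_nsmul', two_nsmul, R.two h.fam, nsmul_zero, zero_add, one_nsmul] at h3
    have h5 : ι g • R.pi y - R.pi y = 0 := by
      have := h3.symm
      rwa [add_eq_left] at this
    exact sub_eq_zero.1 h5

/-- the natural section -/
def natSec [FaithfulSMul H M] (hn : ι.range.Normal) (e : M ≃+ (Fin 2 → F))
    (he : ∀ g m, e (ι g • m) = Matrix.mulVec g.1 (e m)) :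
    SQ1.FFOne.NatSec F (centralizer ({z} : Set G)) (ws V z) (zpowers z) :=
  have hap : ∀ (A : Matrix.SpecialLinearGroup (Fin 2) F) (x : Fin 2 → F), NatPair.ap A x = Matrix.mulVec A.1 x := by
    intro A x
    ext i
    fin_cases i <;> simp [NatPair.ap, Matrix.mulVec, dotProduct, Fin.sum_univ_two, ent]
  { π := fun g => e (R.pi g)
    map_mul := fun v hv w hw => by rw [pi_mul' h R hv hw, map_add]
    V0V := zpowers_le_of_mem (h.ln.V_le_ws h.ln.z_mem)
    ker := fun v hv => by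
      rw [map_eq_zero_iff e e.injective, pi_ker' h R hv, mem_zpowers_iff_of_mul_self h.ln.zz]
    surj := fun x => by
      obtain ⟨w, hw, hw1⟩ := pi_surj' h R (e.symm x)
      exact ⟨w, hw, by rw [hw1, e.apply_symm_apply]⟩
    Vn := fun c hc v hv => conj_ws_z h hc hv
    V0n := fun c hc v hv => by
      rw [conj_zpowers hc hv]
      exact hv
    lift := fun A => by
      obtain ⟨c, hc, hc1⟩ := R.phi_surj (ι A)
      refine ⟨c, hc, fun v hv => ?_⟩
      rw [← act' h R hc hv, hc1, he, hap]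
    norm := fun g hg c hc A hA => by
      have h1 : R.phi c = ι A := by
        apply FaithfulSMul.eq_of_smul_eq_smul (α := M)
        intro m
        obtain ⟨v, hv, rfl⟩ := pi_surj' h R m
        apply e.injective
        rw [act' h R hc hv, hA v hv, he, hap]
      obtain ⟨B, hB⟩ := hn.conj_mem (ι A) ⟨A, rfl⟩ (R.phi g)
      refine ⟨B, fun v hv => ?_⟩
      have hg' : g ∈ cg z := hg
      have hc' : c ∈ cg z := hc
      have hgc : g * c * g⁻¹ ∈ cg z := mul_mem (mul_mem hg' hc') (inv_mem hg')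
      have h2 : R.phi (g * c * g⁻¹) = ι B := by
        rw [hB, R.phi_mul _ (mul_mem hg' hc') _ (inv_mem hg'), R.phi_mul g hg' c hc', R.phi_inv hg', h1]
      rw [← act' h R hgc hv, h2, he, hap] }

/-- **(A1)** -/
theorem A_of [Finite M] [Finite H] [FaithfulSMul H M]
    (core : ∀ U : Subgroup G, IsPGroup 2 U → normalizer (V : Set G) ≤ normalizer (U : Set G) →
      centralizer ({z} : Set G) ≤ normalizer (U : Set G) → U = ⊥)
    (h4 : 4 ≤ Nat.card F) (hi : Function.Injective ι) (hn : ι.range.Normal) {y : G}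
    (hy : y ∈ V) (hy1 : y ≠ 1) (hyz : y ≠ z) (hnc : ∃ a ∈ R.img (ww V cg y), ∃ g, a * ι g ≠ ι g * a) :
    Nat.card F = 4 ∧ Nat.card (R.img (ww V cg y)) = 2 ∧ cc h R ≠ ⊥ := by
  have hfact : Fact (Nat.Prime 2) := ⟨Nat.prime_two⟩
  have hfF : Fintype F := Fintype.ofFinite F
  let S : Sylow 2 H := (R.img_T_two h.fam).toSylow (R.img_T_index h.fam)
  obtain ⟨x, hx⟩ := exists_iota ι hi S
  obtain ⟨κ, hκ⟩ : ∃ κ : Matrix.SpecialLinearGroup (Fin 2) F →* H, ∀ g, κ g = x * ι g * x⁻¹ :=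
    ⟨(MulAut.conj x).toMonoidHom.comp ι, fun g => rfl⟩
  have hκi : Function.Injective κ := fun a b hab => by
    rw [hκ, hκ] at hab
    exact hi (by simpa using hab)
  have hr : κ.range = ι.range := by
    apply le_antisymm
    · rintro _ ⟨g, rfl⟩
      rw [hκ]
      exact hn.conj_mem _ ⟨g, rfl⟩ x
    · rintro _ ⟨g, rfl⟩
      obtain ⟨g', hg'⟩ := hn.conj_mem (ι g) ⟨g, rfl⟩ x⁻¹
      refine ⟨g', ?_⟩
      rw [hκ, hg']
      group
  have hκn : κ.range.Normal := hr ▸ hn
  have hκc : ∃ a ∈ R.img (ww V cg y), ∃ g, a * κ g ≠ κ g * a := by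
    by_contra hcon
    push Not at hcon
    obtain ⟨a, ha, g, hg⟩ := hnc
    have : ι g ∈ κ.range := by rw [hr]; exact ⟨g, rfl⟩
    obtain ⟨g', hg'⟩ := this
    exact hg (by rw [← hg']; exact hcon a ha g')
  have hκT : ∀ g, κ g ∈ R.img T ↔ g ∈ upG F := fun g => by
    rw [hκ]
    exact hx g
  obtain ⟨N, _, _, p, hp, hk, hpe⟩ := exists_quot (H := H) (cc h R) (fun x m hm => cc_inv h R x hm)
  have hfinN : Finite N := Finite.of_surjective p hp
  have hfaith : FaithfulSMul H N := ⟨fun {a b} hab => by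
    rw [← inv_mul_eq_one]
    refine faithful_cc h R fun m => ?_
    rw [← hk, AddMonoidHom.mem_ker, map_sub, hpe, mul_smul, ← hab (p m), inv_smul_smul, sub_self]⟩
  have hcfg := cfg_of h R h4 hκi hκn hy hy1 hyz hκc hκT p hp hk hpe
  have hbot : cc h R ≠ ⊥ := by
    intro hb
    have hpi : Function.Injective p := by
      rw [← AddMonoidHom.ker_eq_bot_iff, hk, hb]
    obtain ⟨⟨e, he⟩, -⟩ := hcfg.natural h4
    let q : M ≃+ N := AddEquiv.ofBijective p ⟨hpi, hp⟩
    refine RuShape.natural_false h core (natSec h R hκn (q.trans e) fun g m => ?_) h4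
    change e (p (κ g • m)) = _
    rw [hpe, he]
    rfl
  have hA4 : ¬ 4 ≤ Nat.card (R.img (ww V cg y)) := by
    intro hA
    apply hbot
    rw [← hk, AddMonoidHom.ker_eq_bot_iff]
    refine hcfg.lift_inj h4 hA p hp hpe (jm h R) (fun a ha m => comm_mem_jm h R hy hy1 hyz ha m)
      (fun m hm hm0 => ?_) fun X hX => ?_
    · refine jm_cc h R hm ?_
      rw [← hk]
      exact hm0
    · rcases sub_cc h R hX with e | e
      · left
        intro m hm
        have := e hm
        rw [← hk] at this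
        exact this
      · right; exact e
  have hhalf := hcfg.half h4
  have hdvd : Nat.card (R.img (ww V cg y)) ∣ Nat.card F := by
    rw [← hcfg.card_bb h4]
    exact AddSubgroup.card_addSubgroup_dvd_card _
  obtain ⟨m, -, hm⟩ := FiniteField.card F 2
  rw [Nat.card_eq_fintype_card (α := F), hm] at hdvd
  obtain ⟨k, -, hk2⟩ := (Nat.dvd_prime_pow Nat.prime_two).1 hdvd
  have hk1 : k = 1 := by
    rcases Nat.lt_trichotomy k 1 with hk3 | hk3 | hk3
    · have : k = 0 := by omega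
      rw [this, pow_zero] at hk2
      omega
    · exact hk3
    · exfalso
      apply hA4
      rw [hk2]
      calc 4 = 2 ^ 2 := by norm_num
        _ ≤ 2 ^ k := Nat.pow_le_pow_right (by norm_num) hk3
  rw [hk1, pow_one] at hk2
  exact ⟨by omega, hk2, hbot⟩

end app

end Cfsg.Agent.Omega.NO3S.SLTwo

end

section


/-!
# NO-3S TwoOne (helper881's text #18307), section 5: `|M| = 16` is impossible if `A` centralises `F(H)`

* `Sp l a x` : the S-pair `(l, x l)` in dimension 4, the output of section 4;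
* `Sp.core` : the data `Core`;
* `five_false` : section 5 for `One T V z`.
-/

set_option autoImplicit false
set_option linter.unusedSectionVars false

namespace Cfsg.Agent.Omega.NO3S.KOne.Five

open Subgroup Cfsg Cfsg.Agent.ZN Cfsg.Agent.MinSimple.Geo Cfsg.Agent.Omega.CaseL
open Cfsg.Agent.Omega.NO3S.Fit Cfsg.Agent.Omega.NO3S.TwoOne
open Cfsg.Agent.Lib.FieldFour

universe u

/-- cyclic groups are nilpotent -/
theorem isNilpotent_zp {H : Type*} [Group H] (x : H) : Group.IsNilpotent (zpowers x) := by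
  let i : CommGroup (zpowers x) :=
    { (inferInstance : Group (zpowers x)) with
      mul_comm := fun a b => Subtype.ext (by
        obtain ⟨i, hi⟩ := mem_zpowers_iff.mp a.2
        obtain ⟨j, hj⟩ := mem_zpowers_iff.mp b.2
        change (a : H) * b = b * a
        rw [← hi, ← hj, ← zpow_add, ← zpow_add, add_comm]) }
  exact CommGroup.isNilpotent

section pure

variable {M H : Type*} [AddCommGroup M] [Group H] [DistribMulAction H M]

/-- **the output of section 4**: the S-pair `(l, x • l)`, `a' = x a x⁻¹`, in a module of order 16 -/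
structure Sp (l : M) (a x : H) : Prop where
  two : ∀ n : M, n + n = 0
  card : Nat.card M = 16
  sq : a * a = 1
  al : a • l = l
  l0 : l ≠ 0
  cen : ∀ h : H, h • l = l ↔ h * a = a * h
  /-- `C_M(a) = [M, a]` -/
  fix : ∀ n : M, a • n = n → ∃ k, n = a • k + k
  /-- `C_M(a) ∩ C_M(a') = 0` -/
  dis : ∀ n : M, a • n = n → (x * a * x⁻¹) • n = n → n = 0
  /-- `μ = [l', a] ∉ {0, l}` -/
  s0 : a • x • l + x • l ≠ 0
  s1 : a • x • l + x • l ≠ l
  /-- `μ' = [l, a'] ∉ {0, l'}` -/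
  s0' : (x * a * x⁻¹) • l + l ≠ 0
  s1' : (x * a * x⁻¹) • l + l ≠ x • l
  /-- (4.1) : `[μ', a] ∉ {0, l}` -/
  q0 : a • ((x * a * x⁻¹) • l + l) + ((x * a * x⁻¹) • l + l) ≠ 0
  q1 : a • ((x * a * x⁻¹) • l + l) + ((x * a * x⁻¹) • l + l) ≠ l
  /-- (4.1) : `[μ, a'] ∉ {0, l'}` -/
  q0' : (x * a * x⁻¹) • (a • x • l + x • l) + (a • x • l + x • l) ≠ 0
  q1' : (x * a * x⁻¹) • (a • x • l + x • l) + (a • x • l + x • l) ≠ x • l

/-- `[M, a] = C_M(a)` has order 4 and is `{0, l, m, l + m}` -/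
theorem four_of {l m : M} {a : H} (two : ∀ n : M, n + n = 0) (card : Nat.card M = 16)
    (sq : a * a = 1) (fix : ∀ n : M, a • n = n → ∃ k, n = a • k + k) (l0 : l ≠ 0) (al : a • l = l)
    (m0 : m ≠ 0) (ml : m ≠ l) (am : a • m = m) (n : M) (hn : a • n = n) :
    n = 0 ∨ n = l ∨ n = m ∨ n = l + m := by
  have hfin : Finite M := Nat.finite_of_card_ne_zero (by rw [card]; norm_num)
  have hsub : ∀ k : M, a • k - k = a • k + k := fun k => by
    rw [sub_eq_add_neg, neg_eq_of_add_eq_zero_left (two k)]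
  -- the map `k ↦ a k + k`
  let f : M →+ M :=
    { toFun := fun k => a • k + k
      map_zero' := by rw [smul_zero, add_zero]
      map_add' := fun p q => by rw [smul_add]; abel }
  have hker : ∀ k, k ∈ f.ker ↔ a • k = k := by
    intro k
    rw [AddMonoidHom.mem_ker]
    change a • k + k = 0 ↔ _
    constructor
    · intro e
      calc a • k = a • k + (k + k) := by rw [two, add_zero]
        _ = k := by rw [← add_assoc, e, zero_add]
    · intro e
      rw [e, two]
  have hran : f.range = f.ker := by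
    ext k
    rw [hker]
    constructor
    · rintro ⟨p, rfl⟩
      change a • (a • p + p) = a • p + p
      rw [smul_add, ← mul_smul, sq, one_smul, add_comm]
    · intro e
      obtain ⟨p, hp⟩ := fix k e
      exact ⟨p, hp.symm⟩
  have h1 : Nat.card f.ker * Nat.card f.range = 16 := by
    rw [← card, ← Nat.card_congr (QuotientAddGroup.quotientKerEquivRange f).toEquiv, mul_comm]
    exact (AddSubgroup.card_eq_card_quotient_mul_card_addSubgroup _).symm
  rw [hran] at h1
  have h4 : Nat.card f.ker = 4 := by nlinarith [h1]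
  have hml : m ≠ 0 ∧ l ≠ m ∧ l + m ≠ 0 ∧ l + m ≠ l ∧ l + m ≠ m := by
    refine ⟨m0, Ne.symm ml, fun e => ?_, fun e => m0 (add_eq_left.mp e), fun e => l0 (add_eq_right.mp e)⟩
    apply ml
    calc m = l + l + m := by rw [two, zero_add]
      _ = l + (l + m) := by rw [add_assoc]
      _ = l := by rw [e, add_zero]
  classical
  have h5 : ((({0, l, m, l + m} : Finset M) : Set M)) ⊆ (f.ker : Set M) := by
    intro k hk
    simp only [Finset.coe_insert, Finset.coe_singleton, Set.mem_insert_iff, Set.mem_singleton_iff] at hk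
    rw [SetLike.mem_coe, hker]
    rcases hk with rfl | rfl | rfl | rfl
    · exact smul_zero a
    · exact al
    · exact am
    · rw [smul_add, al, am]
  have h6 : ({0, l, m, l + m} : Finset M).card = 4 := by
    rw [Finset.card_insert_of_notMem, Finset.card_insert_of_notMem, Finset.card_insert_of_notMem,
      Finset.card_singleton]
    · rw [Finset.mem_singleton]
      exact fun e => hml.2.2.2.2 e.symm
    · simp only [Finset.mem_insert, Finset.mem_singleton, not_or]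
      exact ⟨hml.2.1, fun e => hml.2.2.2.1 e.symm⟩
    · simp only [Finset.mem_insert, Finset.mem_singleton, not_or]
      exact ⟨Ne.symm l0, Ne.symm m0, fun e => hml.2.2.1 e.symm⟩
  have h7 : (((({0, l, m, l + m} : Finset M) : Set M))) = (f.ker : Set M) := by
    refine Set.eq_of_subset_of_ncard_le h5 ?_ (Set.toFinite _)
    rw [Set.ncard_coe_finset, h6]
    exact h4.le
  have h8 : n ∈ (f.ker : Set M) := (hker n).mpr hn
  rw [← h7] at h8
  simpa only [Finset.coe_insert, Finset.coe_singleton, Set.mem_insert_iff, Set.mem_singleton_iff] using h8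

theorem Sp.core {l : M} {a x : H} (s : Sp l a x) :
    Core l (a • x • l + x • l) (x • l) ((x * a * x⁻¹) • l + l) a (x * a * x⁻¹) x := by
  set m := a • x • l + x • l with hm
  set a' := x * a * x⁻¹ with ha'
  set l' := x • l with hl'
  set m' := a' • l + l with hm'
  have two := s.two
  have cc : ∀ p q : M, p + (p + q) = q := fun p q => by rw [← add_assoc, two, zero_add]
  have cc' : ∀ p q : M, p + q + q = p := fun p q => by rw [add_assoc, two, add_zero]
  have sq' : a' * a' = 1 := by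
    rw [ha']
    calc x * a * x⁻¹ * (x * a * x⁻¹) = x * (a * a) * x⁻¹ := by group
      _ = 1 := by rw [s.sq]; group
  have hbl' : a' • l' = l' := by
    rw [ha', hl', mul_smul, mul_smul, inv_smul_smul, s.al]
  have ham : a • m = m := by rw [hm, smul_add, ← mul_smul, s.sq, one_smul, add_comm]
  have hbm' : a' • m' = m' := by rw [hm', smul_add, ← mul_smul, sq', one_smul, add_comm]
  have hal' : a • l' = l' + m := by
    rw [hm, add_comm (a • l'), cc]
  have hbl : a' • l = l + m' := by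
    rw [hm', add_comm (a' • l), cc]
  have fix' : ∀ n : M, a' • n = n → ∃ k, n = a' • k + k := by
    intro n hn
    have h1 : a • x⁻¹ • n = x⁻¹ • n := by
      rw [ha', mul_smul, mul_smul, ← eq_inv_smul_iff] at hn
      exact hn
    obtain ⟨k, hk⟩ := s.fix _ h1
    refine ⟨x • k, ?_⟩
    rw [ha', mul_smul, mul_smul, inv_smul_smul, ← smul_add, ← hk, smul_inv_smul]
  have hl'0 : l' ≠ 0 := fun e => s.l0 ((smul_eq_zero_iff_eq x).mp e)
  have key1 := four_of two s.card s.sq s.fix s.l0 s.al s.s0 s.s1 ham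
  have key2 := four_of two s.card sq' fix' hl'0 hbl' s.s0' s.s1' hbm'
  -- `[m', a] = l + m`
  have hm'l' : m' + l' ≠ 0 := by
    intro e
    apply s.s1'
    calc m' = m' + l' + l' := (cc' _ _).symm
      _ = l' := by rw [e, zero_add]
  have hml : m + l ≠ 0 := by
    intro e
    apply s.s1
    calc m = m + l + l := (cc' _ _).symm
      _ = l := by rw [e, zero_add]
  have ham' : a • m' = m' + (l + m) := by
    have h1 : a • (a • m' + m') = a • m' + m' := by
      rw [smul_add, ← mul_smul, s.sq, one_smul, add_comm]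
    have h2 : a • m' + m' = l + m := by
      rcases key1 _ h1 with e | e | e | e
      · exact absurd e s.q0
      · exact absurd e s.q1
      · exfalso
        apply hm'l'
        refine s.dis _ ?_ ?_
        · rw [smul_add, hal']
          calc a • m' + (l' + m) = (a • m' + m') + m' + l' + m := by rw [cc']; abel
            _ = m + m' + l' + m := by rw [e]
            _ = m' + l' + (m + m) := by abel
            _ = m' + l' := by rw [two, add_zero]
        · rw [smul_add, ← ha', hbm', hbl']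
      · exact e
    rw [← h2, add_comm (a • m'), cc]
  have hbm : a' • m = m + (l' + m') := by
    have h1 : a' • (a' • m + m) = a' • m + m := by
      rw [smul_add, ← mul_smul, sq', one_smul, add_comm]
    have h2 : a' • m + m = l' + m' := by
      rcases key2 _ h1 with e | e | e | e
      · exact absurd e s.q0'
      · exact absurd e s.q1'
      · exfalso
        apply hml
        refine s.dis _ ?_ ?_
        · rw [smul_add, ham, s.al]
        · rw [← ha', smul_add, hbl]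
          calc a' • m + (l + m') = (a' • m + m) + m + l + m' := by rw [cc']; abel
            _ = m' + m + l + m' := by rw [e]
            _ = m + l + (m' + m') := by abel
            _ = m + l := by rw [two, add_zero]
      · exact e
    rw [← h2, add_comm (a' • m), cc]
  exact
    { two := two
      card := s.card
      l0 := s.l0
      m0 := s.s0
      lm := Ne.symm s.s1
      lx := rfl
      ax := rfl
      sq := s.sq
      cen := s.cen
      al := s.al
      am := ham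
      al' := hal'
      am' := ham'
      bl' := hbl'
      bm' := hbm'
      bl := hbl
      bm := hbm }

end pure

variable {G : Type u} [Group G] {T V : Subgroup G} {z : G} {M H : Type u} [AddCommGroup M] [Group H]
  [DistribMulAction H M]

/-- **section 5** -/
theorem false_of_sp [Finite G] [Finite M] [Finite H] [FaithfulSMul H M] (h : One T V z)
    (core : ∀ U : Subgroup G, IsPGroup 2 U → normalizer (V : Set G) ≤ normalizer (U : Set G) →
      centralizer ({z} : Set G) ≤ normalizer (U : Set G) → U = ⊥)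
    (R : MRep V cg z M H) (hc : CenFit R) {y : G} (hy : y ∈ V) (hy1 : y ≠ 1) (hyz : y ≠ z)
    {w : G} (hw : w ∈ ww V cg y) {x : H} (s : Sp (R.pi y) (R.phi w) x) : False := by
  have c := s.core
  have hwi : R.phi w ∈ R.img (ww V cg y) :=
    (R.mem_img (h.fam.ww_le_cf' hy hy1 h.ln.z_mem h.ln.z_ne)).mpr ⟨w, hw, rfl⟩
  -- an element of `T` which moves `m`
  have hT : ∃ t : H, t • R.pi y = R.pi y ∧
      t • (R.phi w • x • R.pi y + x • R.pi y) = R.pi y + (R.phi w • x • R.pi y + x • R.pi y) := by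
    have hsub : R.phi w • x • R.pi y + x • R.pi y = R.phi w • x • R.pi y - x • R.pi y := by
      rw [sub_eq_add_neg, neg_eq_of_add_eq_zero_left (s.two (x • R.pi y))]
    obtain ⟨t, ht, htm⟩ : ∃ t ∈ R.img T, t • (R.phi w • x • R.pi y + x • R.pi y) ≠
        R.phi w • x • R.pi y + x • R.pi y := by
      by_contra hcon
      push Not at hcon
      rw [hsub] at hcon
      rcases R.fix_A h.fam hy hy1 hyz hy hy1 hyz hw hcon with e | e
      · rw [← hsub] at e; exact s.s0 e
      · rw [← hsub] at e; exact s.s1 e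
    have htl := R.img_T_fix h.fam hy hy1 hyz ht
    refine ⟨t, htl, ?_⟩
    have hta := (s.cen t).mp htl
    have h1 : R.phi w • t • (R.phi w • x • R.pi y + x • R.pi y) =
        t • (R.phi w • x • R.pi y + x • R.pi y) := by
      rw [← mul_smul, ← hta, mul_smul, c.am]
    rcases four_of s.two s.card s.sq s.fix s.l0 s.al s.s0 s.s1 c.am _ h1 with e | e | e | e
    · exact absurd ((smul_eq_zero_iff_eq t).mp e) s.s0
    · exfalso
      apply s.s1
      exact smul_left_cancel t (e.trans htl.symm)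
    · exact absurd e htm
    · exact e
  rcases c.main hT with ⟨hn, hne⟩ | ⟨ι, hi, hn, g, hg⟩
  · have hnil : Group.IsNilpotent (zpowers (R.phi w * (x * R.phi w * x⁻¹))) :=
      isNilpotent_zp _
    have h1 := hc _ hn hnil y hy hy1 hyz hwi
    exact hne (mem_centralizer_iff.mp h1 _ (mem_zpowers _)).symm
  · have hchar : CharP F4 2 := CharTwo.of_one_ne_zero_of_two_eq_zero one_ne_zero (by decide)
    obtain ⟨-, -, hcc⟩ := SLTwo.A_of h R core (by rw [F4.natCard]) hi hn hy hy1 hyz ⟨_, hwi, g, hg⟩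
    apply hcc
    rw [eq_bot_iff]
    intro n hn'
    refine AddSubgroup.mem_bot.mpr (s.dis n ?_ ?_)
    · have := SLTwo.comm_cc h R hy hy1 hyz 1 hwi hn'
      rwa [one_mul, inv_one, mul_one] at this
    · exact SLTwo.comm_cc h R hy hy1 hyz x hwi hn'

end Cfsg.Agent.Omega.NO3S.KOne.Five

end

end
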